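import Groth.Agent.StCoh.K933.HTwo
import Groth.Agent.StCoh.K998.ROne
import Groth.Agent.Sga3B.RG.BrDiag

/-!
# The second cohomology of the classifying stack of a finite diagonalizable group
-/

set_option autoImplicit false
set_option linter.unusedSectionVars false
set_option backward.isDefEq.respectTransparency false
set_option backward.isDefEq.respectTransparency.types false

universe u

open CategoryTheory CategoryTheory.Limits Opposite AlgebraicGeometry MonoidalCategory CartesianMonoidalCategory
open scoped MonObj GrpObj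

namespace K933.HTwoCoh

open K998 K998.BGc K998.Dual K998.FG K998.Transfer K998.Shift K998.Coch K998.Gm K998.Glob K998.Hens K998.BGs K998.Quot
open K998.RPush K998.Push K998.Pf K998.ROne K933.HTwo K933.Bridge

section fin

variable (R : Type u) [CommRing R] (M : Type) [AddCommGroup M] [Finite M]

instance finite_ma : Module.Finite R (MonoidAlgebra R (Multiplicative M)) :=
  Module.Finite.of_basis (MonoidAlgebra.basis (Multiplicative M) R)

instance isFinite_diag : IsFinite (Red.diag R M).hom := isFinite_st R (MonoidAlgebra R (Multiplicative M))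

instance flat_diag : Flat (Red.diag R M).hom := flat_st R (MonoidAlgebra R (Multiplicative M))

instance lfp_diag : LocallyOfFinitePresentation (Red.diag R M).hom := by
  have h0 : Module.FinitePresentation R (MonoidAlgebra R (Multiplicative M)) :=
    Module.finitePresentation_of_projective R _
  have h1 : Algebra.FinitePresentation R (MonoidAlgebra R (Multiplicative M)) := inferInstance
  exact lfp_st R (MonoidAlgebra R (Multiplicative M))

variable (S : Scheme.{u})

instance isFinite_DS : IsFinite (Red.DS S M).hom := by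
  change IsFinite (Limits.pullback.snd _ _)
  infer_instance

instance flat_DS : Flat (Red.DS S M).hom := by
  change Flat (Limits.pullback.snd _ _)
  infer_instance

instance lfp_DS : LocallyOfFinitePresentation (Red.DS S M).hom := by
  change LocallyOfFinitePresentation (Limits.pullback.snd _ _)
  infer_instance

end fin

section coh

variable {S : Scheme.{u}} (M : Type) [AddCommGroup M] [Finite M]
  (hM : IsAddCyclic M ∨
      ∀ s : S, ConnectedSpace ↥(Spec (CommRingCat.of (MonoidAlgebra (S.residueField s) (Multiplicative M)))))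

theorem toF_resC {G : Over S} [GrpObj G] {T T' : Over S} (f : T' ⟶ T) {n : ℕ} (c : Cc (pp G) (xx G) (gmP (qf (pp G))) T n) :
    toF (resC f c) = resF G f (toF c) := rfl

include hM in
/-- 2-cocycles are étale-locally coboundaries. -/
theorem lco_two : LCo (pp (Red.DS S M)) (xx (Red.DS S M)) 1 (triv S) (gmP (qf (pp (Red.DS S M)))) 1 := by
  intro T c hc hz τ _
  obtain ⟨T', g, h1, h2, E, hE, hdE⟩ := exists_cob_etale M hM (isFam_toF hc) ((isZ_iff hc).1 hz) τ
  refine ⟨T', g, h1, h2, ofF E, isC_ofF hE, ?_⟩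
  have e1 : smC 1 (resC g c) = resC g c := by
    funext W t v
    rw [smC, one_smul]
  rw [e1, isB_iff (isC_ofF hE) (hc.res g), toF_ofF, hdE, toF_resC]

include hM in
/-- The vanishing of the second direct image. -/
theorem rTwo (K : Precoverage Scheme.{u}) [(QuotSh.J K S).Subcanonical]
    [StCoh.BaseCont K (AlgSt.BG Scheme.fppfPrecoverage (Red.DS S M))]
    [StCoh.MorCont K (FibCat.toSelf (AlgSt.BG Scheme.fppfPrecoverage (Red.DS S M)))]
    [StCoh.MorCocont K (FibCat.toSelf (AlgSt.BG Scheme.fppfPrecoverage (Red.DS S M)))]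
    (hg : RPush.Good K (isFG_quot (Red.DS S M) (AlgSt.trivAction (Red.DS S M)))) :
    IsZero ((StCoh.Rpush K (FibCat.toSelf (AlgSt.BG Scheme.fppfPrecoverage (Red.DS S M))) 2).obj
      (StCoh.Gm K (AlgSt.BG Scheme.fppfPrecoverage (Red.DS S M)))) := by
  have hX : IsFinite (𝟙_ (Over S)).hom := inferInstanceAs (IsFinite (𝟙 _))
  have h1 := isZero_two hg (cov_quot (Red.DS S M) (AlgSt.trivAction (Red.DS S M)))
    (gmF (isFG_qf (isFG_quot (Red.DS S M) (AlgSt.trivAction (Red.DS S M))))) (pca_gm _) (D := triv S) (fun _ _ => trivial)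
    (lco_two M hM)
  exact h1.of_iso (((pu (K := K) (AlgSt.BG Scheme.fppfPrecoverage (Red.DS S M))).rightDerived 2).mapIso (gmRR hg)).symm

end coh

section gen

/-- Transport of the vanishing of cocycles along an isomorphism of groups. -/
theorem mem_bc_iso {S : Scheme.{u}} {G G' : Over S} [GrpObj G] [GrpObj G'] (φ : G ⟶ G') [IsMonHom φ] [IsIso φ]
    {T : Over S} (n : ℕ)
    (h : ∀ F : Fam G' T (n + 1), IsFam F → dF F = 0 → ∃ E : Fam G' T n, IsFam E ∧ dF E = F)
    (c : Zc (pp G) (xx G) (gmP (qf (pp G))) T (n + 1)) : c ∈ Bc (pp G) (xx G) (gmP (qf (pp G))) T n := by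
  obtain ⟨c, hc, hz⟩ := c
  have hi : IsMonHom (asIso φ).hom := inferInstanceAs (IsMonHom φ)
  have hi' : IsMonHom (inv φ) := inferInstanceAs (IsMonHom (asIso φ).inv)
  have h1 : dF (mapF (inv φ) (toF c)) = 0 := by
    rw [dF_mapF, (isZ_iff hc).1 hz]
    rfl
  obtain ⟨E, hE, hdE⟩ := h _ (isFam_mapF (inv φ) (isFam_toF hc)) h1
  have h2 : dF (mapF φ E) = toF c := by
    rw [dF_mapF, hdE, mapF_mapF, IsIso.hom_inv_id, mapF_id]
  refine ⟨ofF (mapF φ E), isC_ofF (isFam_mapF φ hE), ?_⟩
  rw [isB_iff (isC_ofF (isFam_mapF φ hE)) hc, toF_ofF]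
  exact h2

/-- Cohomology of classifying stacks over strictly henselian bases. -/
theorem subsingleton_h (R : Type u) [CommRing R] [HenselianLocalRing R] [IsSepClosed (IsLocalRing.ResidueField R)]
    (G : Over (Spec (CommRingCat.of R))) [GrpObj G]
    [IsFinite G.hom] [Flat G.hom] [LocallyOfFinitePresentation G.hom]
    [StCoh.BaseCont Scheme.etalePrecoverage (AlgSt.BG Scheme.fppfPrecoverage G)] (n : ℕ)
    (h : ∀ c : Zc (pp G) (xx G) (gmP (qf (pp G))) (Over.mk (𝟙 (Spec (CommRingCat.of R)))) (n + 1),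
      c ∈ Bc (pp G) (xx G) (gmP (qf (pp G))) (Over.mk (𝟙 (Spec (CommRingCat.of R)))) n) :
    Subsingleton (StCoh.H Scheme.etalePrecoverage
      (StCoh.Gm Scheme.etalePrecoverage (AlgSt.BG Scheme.fppfPrecoverage G)) (n + 1)) := by
  have hX : IsFinite (𝟙_ (Over (Spec (CommRingCat.of R)))).hom := inferInstanceAs (IsFinite (𝟙 _))
  obtain ⟨A, g, hA, hF⟩ := exists_ext_gm (isFG_quot G (AlgSt.trivAction G))
  obtain ⟨e⟩ := hF (n + 1)
  obtain ⟨e2⟩ := ext_succ (isFG_quot G (AlgSt.trivAction G))
    (cov_quot G (AlgSt.trivAction G)) hA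
    (IsLocalRing.closedPoint R) (spl R) n
    (gmF (isFG_qf (isFG_quot G (AlgSt.trivAction G)))) (pca_gm _)
  refine ⟨fun x y => (e.trans e2).injective ?_⟩
  obtain ⟨c, hc⟩ := QuotientAddGroup.mk_surjective ((e.trans e2) x)
  obtain ⟨c', hc'⟩ := QuotientAddGroup.mk_surjective ((e.trans e2) y)
  rw [← hc, ← hc']
  exact ((QuotientAddGroup.eq_zero_iff c).2 (h c)).trans ((QuotientAddGroup.eq_zero_iff c').2 (h c')).symm

end gen

/-- The second cohomology group of the classifying stack of a diagonalizable group over a strictly henselian ring. -/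
theorem hTwo (R : Type u) [CommRing R] [HenselianLocalRing R] [IsSepClosed (IsLocalRing.ResidueField R)]
    (M : Type) [AddCommGroup M] [Finite M]
    (hM : IsAddCyclic M ∨ ConnectedSpace ↥(Spec (CommRingCat.of (MonoidAlgebra R (Multiplicative M)))))
    [StCoh.BaseCont Scheme.etalePrecoverage (AlgSt.BG Scheme.fppfPrecoverage (Red.diag R M))] :
    Subsingleton (StCoh.H Scheme.etalePrecoverage
      (StCoh.Gm Scheme.etalePrecoverage (AlgSt.BG Scheme.fppfPrecoverage (Red.diag R M))) 2) := by
  have := Fintype.ofFinite M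
  have hgood : K933.Comm.Good R (Multiplicative M) := by
    rcases hM with hM | hM
    · exact Or.inl inferInstance
    · exact Or.inr (Or.inr hM)
  refine subsingleton_h R (Red.diag R M) 1 fun c => ?_
  have hφ : IsMonHom (Groth.Agent.Sga3B.RG.BrDiag.diagTo R M) := Groth.Agent.Sga3B.RG.BrDiag.isMonHom_diagTo R M
  have hφ' : IsIso (Groth.Agent.Sga3B.RG.BrDiag.diagTo R M) := Groth.Agent.Sga3B.RG.BrDiag.isIso_diagTo R M
  refine mem_bc_iso (G := Red.diag R M) (G' := Red.DS (Spec (CommRingCat.of R)) M)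
    (Groth.Agent.Sga3B.RG.BrDiag.diagTo R M) 1 (fun F hF hd => ?_) c
  exact exists_cob_strict R (𝟙 (Spec (CommRingCat.of R))) M hgood hF hd

end K933.HTwoCoh
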