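import Groth.Agent.StCoh.K933.Leray
import Groth.Agent.StCoh.K998.ROne

/-!
# The section of the structure map of a classifying stack, and the splitting of cohomology
-/

set_option autoImplicit false
set_option linter.unusedSectionVars false
set_option backward.isDefEq.respectTransparency false
set_option backward.isDefEq.respectTransparency.types false

universe w v₁ u₁ v₂ u₂ u

open CategoryTheory CategoryTheory.Limits Opposite AlgebraicGeometry MonoidalCategory CartesianMonoidalCategory
open scoped MonObj GrpObj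

namespace K933.Split

open K998 K998.FG K998.Coch K998.Shift K998.Glob K998.Pf K998.Push K998.Gm K998.RPush K998.BGs K998.BGc K998.Quot
open K998.Transfer K998.ROne

section gen

variable {C D : Type (u + 1)} [Category.{u} C] [Category.{u} D] (F : C ⥤ D) (J : GrothendieckTopology C)
  (K : GrothendieckTopology D) [F.IsContinuous J K] [F.IsCocontinuous J K]

/-- The inverse image of a constant sheaf. -/
noncomputable def constIso (M : AddCommGrpCat.{u + 1}) :
    (F.sheafPushforwardContinuous AddCommGrpCat.{u + 1} J K).obj ((constantSheaf K AddCommGrpCat.{u + 1}).obj M) ≅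
      (constantSheaf J AddCommGrpCat.{u + 1}).obj M :=
  ((F.pushforwardContinuousSheafificationCompatibility AddCommGrpCat.{u + 1} J K).app
    ((Functor.const Dᵒᵖ).obj M)).symm

theorem injective_push (I : Sheaf J AddCommGrpCat.{u + 1}) (hI : Injective I) :
    Injective ((F.sheafPushforwardCocontinuous AddCommGrpCat.{u + 1} J K).obj I) := by
  have : (F.sheafPushforwardContinuous AddCommGrpCat.{u + 1} J K).PreservesMonomorphisms := by
    constructor
    intro X Y f hf
    have h1 : Mono f.hom := inferInstanceAs (Mono ((sheafToPresheaf _ _).map f))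
    have h2 : Mono (Functor.whiskerLeft F.op f.hom) := by
      have : ∀ T, Mono (f.hom.app T) := fun T => inferInstance
      have h3 : ∀ W, Mono ((Functor.whiskerLeft F.op f.hom).app W) := fun W => this _
      exact NatTrans.mono_of_mono_app _
    exact (sheafToPresheaf J AddCommGrpCat.{u + 1}).mono_of_mono_map h2
  exact Injective.injective_of_adjoint (F.sheafAdjunctionCocontinuous AddCommGrpCat.{u + 1} J K) I

instance preservesFiniteLimits_cont : PreservesFiniteLimits (F.sheafPushforwardContinuous AddCommGrpCat.{u + 1} J K) := by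
  have h1 : PreservesFiniteLimits ((F.sheafPushforwardContinuous AddCommGrpCat.{u + 1} J K) ⋙ sheafToPresheaf _ _) :=
    inferInstanceAs (PreservesFiniteLimits (sheafToPresheaf K AddCommGrpCat.{u + 1} ⋙
      (Functor.whiskeringLeft _ _ AddCommGrpCat.{u + 1}).obj F.op))
  exact preservesFiniteLimits_of_reflects_of_preserves _ (sheafToPresheaf _ _)

instance preservesFiniteColimits_cont :
    PreservesFiniteColimits (F.sheafPushforwardContinuous AddCommGrpCat.{u + 1} J K) := by
  have : PreservesColimitsOfSize.{0, 0} (F.sheafPushforwardContinuous AddCommGrpCat.{u + 1} J K) :=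
    (F.sheafAdjunctionCocontinuous AddCommGrpCat.{u + 1} J K).leftAdjoint_preservesColimits
  exact PreservesColimitsOfSize.preservesFiniteColimits _

end gen

section sec

variable {S : Scheme.{u}} (G : Over S) [GrpObj G]

theorem tmap_id (T : Over S) : tmap (K := Scheme.fppfPrecoverage) (G := G) (𝟙 T) = 𝟙 _ :=
  AlgSt.QuotObj.Hom.ext rfl (by
    rw [tmap_top]
    exact MonoidalCategory.whiskerLeft_id _ _)

theorem tmap_comp {T T' T'' : Over S} (f : T' ⟶ T) (g : T'' ⟶ T') :
    tmap (K := Scheme.fppfPrecoverage) (G := G) (g ≫ f) = tmap g ≫ tmap f :=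
  AlgSt.QuotObj.Hom.ext rfl (by
    rw [tmap_top]
    exact MonoidalCategory.whiskerLeft_comp _ _ _)

/-- The section of the structure map: trivial torsors. -/
noncomputable def secB : FibCat.selfOver (Over S) ⥤ᵇ AlgSt.BG Scheme.fppfPrecoverage G where
  obj T := tau Scheme.fppfPrecoverage G T
  map f := tmap f
  map_id T := tmap_id G T
  map_comp f g := tmap_comp G g f
  w := rfl

/-- Evaluation at the trivial torsor. -/
noncomputable def ev : pf (pp G) ⟶ (Functor.whiskeringLeft _ _ AddCommGrpCat.{u + 1}).obj (secB G).toFunctor.op where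
  app P :=
    { app := fun T => AddCommGrpCat.ofHom
        { toFun := fun s => s.1 (tau Scheme.fppfPrecoverage G T.unop) (𝟙 _)
          map_zero' := rfl
          map_add' := fun _ _ => rfl }
      naturality := fun T T' f => AddCommGrpCat.ext fun s => by
        change s.1 (tau Scheme.fppfPrecoverage G T'.unop) (𝟙 _ ≫ f.unop) =
          P.map (tmap f.unop).op (s.1 (tau Scheme.fppfPrecoverage G T.unop) (𝟙 _))
        rw [s.2 (tmap f.unop) (𝟙 _)]
        exact congrArg (s.1 _) ((Category.id_comp f.unop).trans (Category.comp_id f.unop).symm) }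
  naturality P Q α := rfl

variable {G} in
/-- Evaluation is injective on sheaves. -/
theorem ev_injective (hx₀ : ∀ W, sv (xx G) W ∈ topo (isFG_qf (isFG_quot G (AlgSt.trivAction G))) Scheme.fppfTopology.{u} W)
    (P : AF (isFG_quot G (AlgSt.trivAction G))) (T : Over S) :
    Function.Injective (((ev G).app P.obj).app (op T)) := by
  intro s s' h
  have h' : s.1 (tau Scheme.fppfPrecoverage G T) (𝟙 _) = s'.1 (tau Scheme.fppfPrecoverage G T) (𝟙 _) := h
  apply Subtype.ext
  refine eq_of_cover P.property hx₀ s.2 s'.2 fun W t v => ?_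
  have h1 := s.2 (iota v ≫ tmap t) (𝟙 _)
  have h2 := s'.2 (iota v ≫ tmap t) (𝟙 _)
  rw [h'] at h1
  have e : (pp G).map (iota v ≫ tmap t) ≫ 𝟙 _ = t := by
    rw [Category.comp_id]
    exact Category.id_comp t
  have h3 := h1.symm.trans h2
  rw [e] at h3
  exact h3

/-- Evaluation is bijective on units. -/
theorem ev_gm_bijective (hx₀ : ∀ W, sv (xx G) W ∈ topo (isFG_qf (isFG_quot G (AlgSt.trivAction G))) Scheme.fppfTopology.{u} W)
    (T : Over S) :
    Function.Bijective (((ev G).app (gmF (isFG_qf (isFG_quot G (AlgSt.trivAction G)))).obj).app (op T)) := by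
  refine ⟨ev_injective hx₀ (gmF (isFG_qf (isFG_quot G (AlgSt.trivAction G)))) T, fun x => ?_⟩
  refine ⟨⟨fun W t => res t (x : U T), fun W W' f t => res_comp t ((pp G).map f) (x : U T)⟩, ?_⟩
  exact res_id (x : U T)

variable (K : Precoverage Scheme.{u}) [(QuotSh.J K S).Subcanonical]
  [StCoh.BaseCont K (AlgSt.BG Scheme.fppfPrecoverage G)]
  [StCoh.MorCont K (FibCat.toSelf (AlgSt.BG Scheme.fppfPrecoverage G))]
  [StCoh.MorCocont K (FibCat.toSelf (AlgSt.BG Scheme.fppfPrecoverage G))]
  [StCoh.MorCont K (secB G)] [StCoh.MorCocont K (secB G)]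

/-- The comparison of the direct image with the restriction to the section. -/
noncomputable def eta : pu (K := K) (AlgSt.BG Scheme.fppfPrecoverage G) ⟶ StCoh.pull K (secB G) AddCommGrpCat.{u + 1} where
  app F := ⟨(ranIso (pp G)).hom.app F.obj ≫ (ev G).app F.obj⟩
  naturality F F' φ := Sheaf.hom_ext (by
    have h1 := (ranIso (pp G)).hom.naturality φ.hom
    have h2 := (ev G).naturality φ.hom
    have h3 : (pp G).op.ran.map φ.hom ≫ (ranIso (pp G)).hom.app F'.obj ≫ (ev G).app F'.obj =
        ((ranIso (pp G)).hom.app F.obj ≫ (ev G).app F.obj) ≫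
          ((Functor.whiskeringLeft _ _ AddCommGrpCat.{u + 1}).obj (secB G).toFunctor.op).map φ.hom := by
      rw [← Category.assoc, h1, Category.assoc, h2, Category.assoc]
      rfl
    exact h3)

variable {K}

theorem isIso_eta_gm (hg : RPush.Good K (isFG_quot G (AlgSt.trivAction G)))
    (hx₀ : ∀ W, sv (xx G) W ∈ topo (isFG_qf (isFG_quot G (AlgSt.trivAction G))) Scheme.fppfTopology.{u} W) :
    IsIso ((eta G K).app (StCoh.Gm K (AlgSt.BG Scheme.fppfPrecoverage G))) := by
  rw [← NatTrans.isIso_app_iff_of_iso (eta G K) (gmRR (K := K) hg)]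
  have h1 : ∀ T, IsIso (((ev G).app (gmF (isFG_qf (isFG_quot G (AlgSt.trivAction G)))).obj).app T) := fun T => by
    exact (ConcreteCategory.isIso_iff_bijective _).2 (ev_gm_bijective G hx₀ T.unop)
  have h2 : IsIso ((ev G).app (gmF (isFG_qf (isFG_quot G (AlgSt.trivAction G)))).obj) := NatIso.isIso_of_isIso_app _
  have h3 : IsIso (((eta G K).app ((RR hg).obj (gmF (isFG_qf (isFG_quot G (AlgSt.trivAction G)))))).hom) :=
    inferInstanceAs (IsIso ((ranIso (pp G)).hom.app (gmF (isFG_qf (isFG_quot G (AlgSt.trivAction G)))).obj ≫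
      (ev G).app (gmF (isFG_qf (isFG_quot G (AlgSt.trivAction G)))).obj))
  have h4 : IsIso ((sheafToPresheaf _ AddCommGrpCat.{u + 1}).map
    ((eta G K).app ((RR hg).obj (gmF (isFG_qf (isFG_quot G (AlgSt.trivAction G))))))) := h3
  exact isIso_of_reflects_iso _ (sheafToPresheaf _ AddCommGrpCat.{u + 1})

end sec

section alpha

variable {S : Scheme.{u}} (K : Precoverage Scheme.{u}) (𝒳 : AlgSt.Cat S)
  [StCoh.MorCont K (FibCat.toSelf 𝒳)] [StCoh.MorCocont K (FibCat.toSelf 𝒳)]

/-- the coefficients -/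
noncomputable abbrev zz : AddCommGrpCat.{u + 1} := AddCommGrpCat.of (ULift.{u + 1} ℤ)

/-- Global sections of the direct image. -/
noncomputable def alpha (X : StCoh.Ab K 𝒳) :
    ((constantSheaf (StCoh.J K 𝒳) AddCommGrpCat.{u + 1}).obj zz ⟶ X) ≃+
      ((constantSheaf (StCoh.J K (FibCat.selfOver (Over S))) AddCommGrpCat.{u + 1}).obj zz ⟶ (pu 𝒳).obj X) where
  toFun g := (StCoh.pullPushAdj K (FibCat.toSelf 𝒳)).homEquiv _ _
    ((constIso (FibCat.toSelf 𝒳).toFunctor (StCoh.J K 𝒳) (StCoh.J K (FibCat.selfOver (Over S))) zz).hom ≫ g)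
  invFun h := (constIso (FibCat.toSelf 𝒳).toFunctor (StCoh.J K 𝒳) (StCoh.J K (FibCat.selfOver (Over S))) zz).inv ≫
    ((StCoh.pullPushAdj K (FibCat.toSelf 𝒳)).homEquiv _ _).symm h
  left_inv g := by
    dsimp only
    rw [Equiv.symm_apply_apply, Iso.inv_hom_id_assoc]
  right_inv h := by
    dsimp only
    rw [Iso.hom_inv_id_assoc, Equiv.apply_symm_apply]
  map_add' g g' := by
    rw [Preadditive.comp_add, Adjunction.homEquiv_unit, Adjunction.homEquiv_unit, Adjunction.homEquiv_unit,
      Functor.map_add, Preadditive.comp_add]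

theorem alpha_comp {X X' : StCoh.Ab K 𝒳} (g : (constantSheaf (StCoh.J K 𝒳) AddCommGrpCat.{u + 1}).obj zz ⟶ X)
    (f : X ⟶ X') : alpha K 𝒳 X' (g ≫ f) = alpha K 𝒳 X g ≫ (pu 𝒳).map f := by
  change (StCoh.pullPushAdj K (FibCat.toSelf 𝒳)).homEquiv _ _ (_ ≫ g ≫ f) =
    (StCoh.pullPushAdj K (FibCat.toSelf 𝒳)).homEquiv _ _ (_ ≫ g) ≫ _
  rw [← Category.assoc, Adjunction.homEquiv_naturality_right]

end alpha

section main

variable {S : Scheme.{u}} (K : Precoverage Scheme.{u}) [(QuotSh.J K S).Subcanonical] (G : Over S) [GrpObj G]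
  [IsCommMonObj G] [IsFinite G.hom] [Flat G.hom] [LocallyOfFinitePresentation G.hom]
  [StCoh.BaseCont K (AlgSt.BG Scheme.fppfPrecoverage G)]
  [StCoh.BaseCont K (FibCat.selfOver (Over S))]

/-- The direct image of the multiplicative group. -/
noncomputable def resGm [StCoh.MorCont K (secB G)] :
    (StCoh.pull K (secB G) AddCommGrpCat.{u + 1}).obj (StCoh.Gm K (AlgSt.BG Scheme.fppfPrecoverage G)) ≅
      StCoh.Gm K (FibCat.selfOver (Over S)) := Iso.refl _

/-- The splitting of the second cohomology of the classifying stack. -/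
theorem split (hg : RPush.Good K (isFG_quot G (AlgSt.trivAction G)))
    (h2 : ∀ [StCoh.MorCont K (FibCat.toSelf (AlgSt.BG Scheme.fppfPrecoverage G))]
      [StCoh.MorCocont K (FibCat.toSelf (AlgSt.BG Scheme.fppfPrecoverage G))],
      IsZero ((StCoh.Rpush K (FibCat.toSelf (AlgSt.BG Scheme.fppfPrecoverage G)) 2).obj
        (StCoh.Gm K (AlgSt.BG Scheme.fppfPrecoverage G)))) :
    Nonempty (StCoh.H K (StCoh.Gm K (AlgSt.BG Scheme.fppfPrecoverage G)) 2 ≃+
      StCoh.H K (StCoh.Gm K (FibCat.selfOver (Over S))) 2 ×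
        StCoh.H K ((StCoh.ofBase K (FibCat.selfOver (Over S)) AddCommGrpCat.{u + 1}).obj
          (CGrpSh2.dualSh K (CGrpSh.pts K G))) 1) := by
  have hq : IsFG (AlgSt.BG Scheme.fppfPrecoverage G).p := isFG_quot G (AlgSt.trivAction G)
  have hs : IsFG (FibCat.selfOver (Over S)).p := isFG_id
  have i1 : StCoh.MorCont K (FibCat.toSelf (AlgSt.BG Scheme.fppfPrecoverage G)) := morCont K _ hq hs
  have i2 : StCoh.MorCocont K (FibCat.toSelf (AlgSt.BG Scheme.fppfPrecoverage G)) := morCocont K _ hq hs
  have i3 : StCoh.MorCont K (secB G) := morCont K _ hs hq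
  have i4 : StCoh.MorCocont K (secB G) := morCocont K _ hs hq
  have hX : IsFinite (𝟙_ (Over S)).hom := inferInstanceAs (IsFinite (𝟙 _))
  have hcov := cov_quot G (AlgSt.trivAction G)
  have i5 := isIso_eta_gm G hg (hcov.sv_mem hq)
  have i6 : PreservesFiniteLimits (pu (K := K) (AlgSt.BG Scheme.fppfPrecoverage G)) := by
    have : PreservesLimitsOfSize.{0, 0} (pu (K := K) (AlgSt.BG Scheme.fppfPrecoverage G)) :=
      (StCoh.pullPushAdj K (FibCat.toSelf (AlgSt.BG Scheme.fppfPrecoverage G))).rightAdjoint_preservesLimits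
    exact PreservesLimitsOfSize.preservesFiniteLimits _
  obtain ⟨e⟩ := K933.Leray.main (pu (AlgSt.BG Scheme.fppfPrecoverage G)) (alpha K (AlgSt.BG Scheme.fppfPrecoverage G))
    (fun g f => alpha_comp K _ g f) (fun I hI => injective_push _ _ _ I hI) (StCoh.pull K (secB G) AddCommGrpCat.{u + 1})
    (eta G K) (StCoh.Gm K (AlgSt.BG Scheme.fppfPrecoverage G)) h2
  obtain ⟨e1⟩ := rOne K G hg
  have e0 := asIso ((eta G K).app (StCoh.Gm K (AlgSt.BG Scheme.fppfPrecoverage G))) ≪≫ resGm K G
  exact ⟨e.trans ((K933.Leray.extIso e0 _ 2).prodCongr (K933.Leray.extIso e1 _ 1))⟩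

end main

end K933.Split
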