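import Groth.Agent.StCoh.K933.Comm
import Groth.Agent.StCoh.K998.Dual
import Groth.Agent.Sga3B.DSPts

/-!
# Hochschild 2-cocycles of `D_S(M)` in terms of coefficients
-/

set_option autoImplicit false
set_option linter.unusedSectionVars false
set_option backward.isDefEq.respectTransparency false
set_option backward.isDefEq.respectTransparency.types false

universe u

open CategoryTheory CategoryTheory.Limits Opposite AlgebraicGeometry MonoidalCategory CartesianMonoidalCategory MonObj GrpObj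

namespace K933.Bridge

open K998.BGc K998.Dual K933.TwAlg K933.Comm Groth.Agent.Sga3B.DSPts

section sp

variable {R : Type u} [CommRing R]

/-- the ring homomorphism of a morphism to `Spec R` -/
noncomputable def ringOf {X : Scheme.{u}} (s : X ⟶ Spec (CommRingCat.of R)) : R →+* Γ(X, ⊤) :=
  ((Scheme.ΓSpecIso (CommRingCat.of R)).inv ≫ s.appTop).hom

/-- the morphism to `Spec R` of a ring homomorphism -/
noncomputable def toSp {X : Scheme.{u}} (φ : R →+* Γ(X, ⊤)) : X ⟶ Spec (CommRingCat.of R) :=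
  X.toSpecΓ ≫ Spec.map (CommRingCat.ofHom φ)

theorem toSp_ringOf {X : Scheme.{u}} (s : X ⟶ Spec (CommRingCat.of R)) : toSp (ringOf s) = s := by
  rw [toSp, ringOf, CommRingCat.ofHom_hom, Spec.map_comp]
  rw [← Scheme.toSpecΓ_naturality_assoc, AlgebraicGeometry.toSpecΓ_SpecMap_ΓSpecIso_inv, Category.comp_id]

theorem ringOf_comp {X Y : Scheme.{u}} (f : Y ⟶ X) (s : X ⟶ Spec (CommRingCat.of R)) :
    ringOf (f ≫ s) = f.appTop.hom.comp (ringOf s) := by
  rw [ringOf, Scheme.Hom.comp_appTop]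
  rfl

theorem ringOf_map {R' : Type u} [CommRing R'] {X : Scheme.{u}} (s : X ⟶ Spec (CommRingCat.of R')) (ψ : R →+* R') :
    ringOf (s ≫ Spec.map (CommRingCat.ofHom ψ)) = (ringOf s).comp ψ := by
  rw [ringOf, Scheme.Hom.comp_appTop, ← Category.assoc, ← Scheme.ΓSpecIso_inv_naturality, Category.assoc]
  rfl

theorem ringOf_toSp {X : Scheme.{u}} (φ : R →+* Γ(X, ⊤)) : ringOf (toSp φ) = φ := by
  rw [toSp]
  refine (ringOf_map (R' := Γ(X, ⊤)) X.toSpecΓ φ).trans ?_
  have h : ringOf (R := Γ(X, ⊤)) X.toSpecΓ = RingHom.id _ := by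
    rw [ringOf, Scheme.toSpecΓ_appTop]
    exact congrArg CommRingCat.Hom.hom (Scheme.ΓSpecIso Γ(X, ⊤)).inv_hom_id
  rw [h, RingHom.id_comp]

end sp

section units

variable {S : Scheme.{u}}

/-- the unit of an element -/
noncomputable def toU {T : Over S} (x : U T) : Γ(T.left, ⊤)ˣ :=
  Additive.toMul (ULift.down (show ULift.{u + 1} (Additive Γ(T.left, ⊤)ˣ) from x))

/-- the element of a unit -/
noncomputable def ofU {T : Over S} (x : Γ(T.left, ⊤)ˣ) : U T :=
  show ULift.{u + 1} (Additive Γ(T.left, ⊤)ˣ) from ULift.up (Additive.ofMul x)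

theorem toU_ofU {T : Over S} (x : Γ(T.left, ⊤)ˣ) : toU (ofU x : U T) = x := rfl
theorem ofU_toU {T : Over S} (x : U T) : ofU (toU x) = x := rfl
theorem toU_add {T : Over S} (x y : U T) : toU (x + y) = toU x * toU y := rfl
theorem toU_zero {T : Over S} : toU (0 : U T) = 1 := rfl
theorem toU_neg {T : Over S} (x : U T) : toU (-x) = (toU x)⁻¹ := rfl
theorem toU_res {T T' : Over S} (f : T' ⟶ T) (x : U T) :
    ((toU (res f x) : Γ(T'.left, ⊤)ˣ) : Γ(T'.left, ⊤)) = f.left.appTop.hom ((toU x : Γ(T.left, ⊤)ˣ) : Γ(T.left, ⊤)) := rfl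
theorem toU_injective {T : Over S} : Function.Injective (toU : U T → _) := fun x y h => by
  rw [← ofU_toU x, h, ofU_toU]

theorem ext_toU {T : Over S} {x y : U T} (h : ((toU x : Γ(T.left, ⊤)ˣ) : Γ(T.left, ⊤)) = (toU y : Γ(T.left, ⊤)ˣ)) : x = y :=
  toU_injective (Units.ext h)

end units

section fam

variable {S : Scheme.{u}} {M : Type} [AddCommGroup M] [Fintype M] [DecidableEq M]
  {R : Type u} [CommRing R] (b : Spec (CommRingCat.of R) ⟶ S)

/-- the affine base -/
noncomputable abbrev T0 : Over S := Over.mk b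

/-- an algebra over the affine base -/
noncomputable abbrev TB (B : Type u) [CommRing B] [Algebra R B] : Over S :=
  Over.mk (Spec.map (CommRingCat.ofHom (algebraMap R B)) ≫ b)

/-- its structure morphism -/
noncomputable def tB (B : Type u) [CommRing B] [Algebra R B] : TB b B ⟶ T0 b :=
  Over.homMk (Spec.map (CommRingCat.ofHom (algebraMap R B))) rfl

/-- functions on the affine scheme -/
noncomputable def inB (B : Type u) [CommRing B] [Algebra R B] : B →+* Γ((TB b B).left, ⊤) :=
  (Scheme.ΓSpecIso (CommRingCat.of B)).inv.hom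

/-- functions on the affine scheme -/
noncomputable def outB (B : Type u) [CommRing B] [Algebra R B] : Γ((TB b B).left, ⊤) →+* B :=
  (Scheme.ΓSpecIso (CommRingCat.of B)).hom.hom

theorem inB_outB (B : Type u) [CommRing B] [Algebra R B] (x : Γ((TB b B).left, ⊤)) : inB b B (outB b B x) = x :=
  congrArg (fun ψ : Γ(Spec (CommRingCat.of B), ⊤) ⟶ Γ(Spec (CommRingCat.of B), ⊤) => ψ.hom x)
    (Scheme.ΓSpecIso (CommRingCat.of B)).hom_inv_id

theorem outB_inB (B : Type u) [CommRing B] [Algebra R B] (x : B) : outB b B (inB b B x) = x :=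
  congrArg (fun ψ : CommRingCat.of B ⟶ CommRingCat.of B => ψ.hom x)
    (Scheme.ΓSpecIso (CommRingCat.of B)).inv_hom_id

/-- Global functions as an algebra. -/
@[reducible] noncomputable def alg {T' : Over S} (t : T' ⟶ T0 b) : Algebra R Γ(T'.left, ⊤) := (ringOf t.left).toAlgebra

/-- points with values in an algebra -/
noncomputable def pB {B : Type u} [CommRing B] [Algebra R B] (g : Multiplicative M →* B) : TB b B ⟶ Red.DS S M :=
  dsEquiv (TB b B) M ((inB b B : B →* Γ((TB b B).left, ⊤)).comp g)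

section mSp

variable {b} {T' : Over S} {B : Type u} [CommRing B] [Algebra R B] (t : T' ⟶ T0 b) (Φ : B →+* Γ(T'.left, ⊤))
  (hΦ : Φ.comp (algebraMap R B) = ringOf t.left)

include hΦ in
theorem mSp_w : toSp Φ ≫ Spec.map (CommRingCat.ofHom (algebraMap R B)) = t.left := by
  have e1 : ringOf (toSp Φ ≫ Spec.map (CommRingCat.ofHom (algebraMap R B))) = ringOf t.left := by
    rw [ringOf_map, ringOf_toSp, hΦ]
  rw [← toSp_ringOf t.left, ← e1, toSp_ringOf]

/-- the morphism given by a homomorphism -/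
noncomputable def mSp : T' ⟶ TB b B := Over.homMk (toSp Φ) (by
    change toSp Φ ≫ Spec.map (CommRingCat.ofHom (algebraMap R B)) ≫ b = _
    rw [← Category.assoc, mSp_w t Φ hΦ]
    exact Over.w t)

theorem mSp_tB : mSp t Φ hΦ ≫ tB b B = t := Over.OverMorphism.ext (mSp_w t Φ hΦ)

theorem mSp_app (x : B) : (mSp t Φ hΦ).left.appTop.hom (inB b B x) = Φ x :=
  RingHom.congr_fun (ringOf_toSp Φ) x

theorem mSp_pB (q : Multiplicative M →* B) (g' : T' ⟶ Red.DS S M) (hq : ∀ a, Φ (q a) = dsChar g' a) :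
    mSp t Φ hΦ ≫ pB b q = g' := by
  rw [pB, dsEquiv_naturality, ← dsEquiv_dsChar g']
  congr 1
  ext a
  exact (mSp_app t Φ hΦ (q a)).trans (hq a)

end mSp

/-- the index monoid -/
abbrev K2 (M : Type) := Multiplicative M × Multiplicative M

variable (R M) in
/-- universal points -/
noncomputable def q1 : Multiplicative M →* MonoidAlgebra R (K2 M) := (MonoidAlgebra.of R (K2 M)).comp (MonoidHom.inl _ _)
variable (R M) in
/-- universal points -/
noncomputable def q2 : Multiplicative M →* MonoidAlgebra R (K2 M) := (MonoidAlgebra.of R (K2 M)).comp (MonoidHom.inr _ _)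

/-- the universal value -/
noncomputable def zF (F : Fam (Red.DS S M) (T0 b) 2) : MonoidAlgebra R (K2 M) :=
  outB b (MonoidAlgebra R (K2 M)) (Units.val
    (toU (F (TB b (MonoidAlgebra R (K2 M))) (tB b _) ![pB b (q1 M R), pB b (q2 M R)])))

/-- its coefficients -/
noncomputable def zz (F : Fam (Red.DS S M) (T0 b) 2) : Multiplicative M → Multiplicative M → R :=
  fun a c => (zF b F).coeff (a, c)

variable {b}

theorem key {F : Fam (Red.DS S M) (T0 b) 2} (hF : IsFam F) (T' : Over S) (t : T' ⟶ T0 b) (g h : T' ⟶ Red.DS S M) :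
    letI := alg b t
    Units.val (toU (F T' t ![g, h])) = ev2 (zz b F) (dsChar g) (dsChar h) := by
  let _ := alg b t
  have h1 : ev2 (zz b F) (dsChar g) (dsChar h) = evH R (dsChar g) (dsChar h) (zF b F) := by
    rw [← evH_toMA]
    exact congrArg _ (toMA_ofMA _)
  rw [h1]
  have hΦ : ((evH R (dsChar g) (dsChar h) : MonoidAlgebra R (K2 M) →ₐ[R] Γ(T'.left, ⊤)) :
      MonoidAlgebra R (K2 M) →+* Γ(T'.left, ⊤)).comp (algebraMap R (MonoidAlgebra R (K2 M))) = ringOf t.left :=
    (evH R (dsChar g) (dsChar h) : MonoidAlgebra R (K2 M) →ₐ[R] Γ(T'.left, ⊤)).comp_algebraMap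
  have h2 := hF (mSp t _ hΦ) (tB b _) ![pB b (q1 M R), pB b (q2 M R)]
  have h3 : (fun i => mSp t _ hΦ ≫ ![pB b (q1 M R), pB b (q2 M R)] i) = ![g, h] := by
    funext i
    fin_cases i
    · refine mSp_pB t _ hΦ _ _ fun a => ?_
      change evH R (dsChar g) (dsChar h) (MonoidAlgebra.of R (K2 M) (a, 1)) = _
      rw [evH, MonoidAlgebra.lift_of, MonoidHom.coprod_apply, map_one, _root_.mul_one]
      rfl
    · refine mSp_pB t _ hΦ _ _ fun a => ?_
      change evH R (dsChar g) (dsChar h) (MonoidAlgebra.of R (K2 M) (1, a)) = _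
      rw [evH, MonoidAlgebra.lift_of, MonoidHom.coprod_apply, map_one, _root_.one_mul]
      rfl
  rw [h3, mSp_tB] at h2
  rw [← h2, toU_res]
  refine Eq.trans ?_ (mSp_app t _ hΦ (zF b F))
  rw [zF, inB_outB]

theorem inB_algebraMap (b : Spec (CommRingCat.of R) ⟶ S) (B : Type u) [CommRing B] [Algebra R B] :
    (inB b B).comp (algebraMap R B) = ringOf (tB b B).left := by
  have h := ringOf_map (X := Spec (CommRingCat.of B)) (𝟙 (Spec (CommRingCat.of B))) (algebraMap R B)
  rw [Category.id_comp] at h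
  refine Eq.trans ?_ h.symm
  have h2 : ringOf (𝟙 (Spec (CommRingCat.of B))) = inB b B := by
    rw [ringOf, Scheme.Hom.id_appTop, Category.comp_id]
    rfl
  rw [h2]

/-- the algebra isomorphism of `B` with the functions on `Spec B` -/
noncomputable def isoB (b : Spec (CommRingCat.of R) ⟶ S) (B : Type u) [CommRing B] [Algebra R B] :
    letI := alg b (tB b B)
    B →ₐ[R] Γ((TB b B).left, ⊤) :=
  letI := alg b (tB b B)
  { inB b B with
    commutes' := fun r => RingHom.congr_fun (inB_algebraMap b B) r }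

theorem isoB_apply (b : Spec (CommRingCat.of R) ⟶ S) (B : Type u) [CommRing B] [Algebra R B] (x : B) :
    isoB b B x = inB b B x := rfl

theorem isoB_injective (b : Spec (CommRingCat.of R) ⟶ S) (B : Type u) [CommRing B] [Algebra R B] :
    Function.Injective (isoB b B) := by
  intro x y h
  rw [isoB_apply, isoB_apply] at h
  rw [← outB_inB b B x, ← outB_inB b B y, h]

/-- Values on affine schemes. -/
theorem key_B {F : Fam (Red.DS S M) (T0 b) 2} (hF : IsFam F) (B : Type u) [CommRing B] [Algebra R B]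
    (g h : Multiplicative M →* B) :
    Units.val (toU (F (TB b B) (tB b B) ![pB b g, pB b h])) = isoB b B (ev2 (zz b F) g h) := by
  let _ := alg b (tB b B)
  rw [ev2_comp, key hF]
  congr 1
  · rw [pB, dsChar_dsEquiv]
    exact MonoidHom.ext fun a => rfl
  · rw [pB, dsChar_dsEquiv]
    exact MonoidHom.ext fun a => rfl

theorem pB_mul {B : Type u} [CommRing B] [Algebra R B] (g h : Multiplicative M →* B) :
    pB b (g * h) = pB b g * pB b h := by
  rw [pB, pB, pB, ← map_mul]
  congr 1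
  ext a
  exact map_mul (inB b B) _ _

/-- The cocycle identity for families of degree 2. -/
theorem dF_two {F : Fam (Red.DS S M) (T0 b) 2} (hd : dF F = 0) (T' : Over S) (t : T' ⟶ T0 b) (g h k : T' ⟶ Red.DS S M) :
    F T' t ![h, k] + F T' t ![g, h * k] = F T' t ![g * h, k] + F T' t ![g, h] := by
  have h1 := congrFun (congrFun (congrFun hd T') t) ![g, h, k]
  rw [dF, Fin.sum_univ_three] at h1
  have e0 : (fun i : Fin 2 => (![g, h, k] : Fin 3 → _) i.succ) = ![h, k] := by
    funext i
    fin_cases i <;> rfl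
  have e1 : Fin.contractNth (0 : Fin 3) (· * ·) ![g, h, k] = ![g * h, k] := by
    funext i
    fin_cases i <;> rfl
  have e2 : Fin.contractNth (1 : Fin 3) (· * ·) ![g, h, k] = ![g, h * k] := by
    funext i
    fin_cases i <;> rfl
  have e3 : Fin.contractNth (2 : Fin 3) (· * ·) ![g, h, k] = ![g, h] := by
    funext i
    fin_cases i <;> rfl
  rw [e0, e1, e2, e3] at h1
  have h2 : F T' t ![h, k] - F T' t ![g * h, k] + F T' t ![g, h * k] - F T' t ![g, h] = 0 := by
    refine Eq.trans ?_ h1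
    change _ = _ + ((-1 : ℤ) ^ (0 + 1) • _ + (-1 : ℤ) ^ (1 + 1) • _ + (-1 : ℤ) ^ (2 + 1) • _)
    have s1 : (-1 : ℤ) ^ (0 + 1) = -1 := by norm_num
    have s2 : (-1 : ℤ) ^ (1 + 1) = 1 := by norm_num
    have s3 : (-1 : ℤ) ^ (2 + 1) = -1 := by norm_num
    rw [s1, s2, s3, neg_smul, neg_smul, one_smul, one_smul, one_smul]
    abel
  have h3 : F T' t ![h, k] + F T' t ![g, h * k] - (F T' t ![g * h, k] + F T' t ![g, h]) = 0 := by
    rw [← h2]
    abel
  exact sub_eq_zero.1 h3

theorem isCoc_zz {F : Fam (Red.DS S M) (T0 b) 2} (hF : IsFam F) (hd : dF F = 0) : IsCoc (zz b F) := by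
  intro B _ _ g h k
  apply isoB_injective b B
  rw [map_mul, map_mul, ← key_B hF, ← key_B hF, ← key_B hF, ← key_B hF, ← Units.val_mul, ← Units.val_mul, ← toU_add, ← toU_add,
    pB_mul, pB_mul, dF_two hd]

theorem isFam_neg {F : Fam (Red.DS S M) (T0 b) 2} (hF : IsFam F) : IsFam (-F) := by
  intro T' T'' f t g
  change res f (- F T' t g) = - F T'' _ _
  rw [map_neg, hF f]

theorem isInv_zz {F : Fam (Red.DS S M) (T0 b) 2} (hF : IsFam F) : IsInv (zz b F) (zz b (-F)) := by
  intro B _ _ g h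
  apply isoB_injective b B
  rw [map_mul, map_one, ← key_B hF, ← key_B (isFam_neg hF), ← Units.val_mul, ← toU_add]
  have : F (TB b B) (tB b B) ![pB b g, pB b h] + (-F) (TB b B) (tB b B) ![pB b g, pB b h] = 0 := add_neg_cancel _
  rw [this, toU_zero, Units.val_one]

/-- the datum of a family -/
noncomputable def dat {F : Fam (Red.DS S M) (T0 b) 2} (hF : IsFam F) (hd : dF F = 0)
    (hs : ∀ a c, zz b F a c = zz b F c a) : Dat R (Multiplicative M) where
  z := zz b F
  coc := isCoc_zz hF hd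
  symm := hs
  u := ∑ a, ∑ c, zz b F a c
  v := ∑ a, ∑ c, zz b (-F) a c
  huv := by
    have h := isInv_zz hF R 1 1
    rw [ev2_one_one, ev2_one_one] at h
    exact h
  one := coeff_one (isCoc_zz hF hd) (isInv_zz hF)

section cob

variable {F : Fam (Red.DS S M) (T0 b) 2} (hF : IsFam F) (d : Dat R (Multiplicative M)) (hdz : d.z = zz b F)

/-- the algebra homomorphism of a point -/
noncomputable def psi {T' : Over S} (t : T' ⟶ TB b (Tw d)) :
    letI := alg b (t ≫ tB b (Tw d))
    Tw d →ₐ[R] Γ(T'.left, ⊤) :=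
  letI := alg b (t ≫ tB b (Tw d))
  { (ringOf t.left : Tw d →+* Γ(T'.left, ⊤)) with
    commutes' := fun r => RingHom.congr_fun (ringOf_map t.left (algebraMap R (Tw d))).symm r }

include hF hdz in
theorem isUnit_psi {T' : Over S} (t : T' ⟶ TB b (Tw d)) (g : T' ⟶ Red.DS S M) :
    IsUnit (ysol d (ringOf t.left : Tw d →+* Γ(T'.left, ⊤)) (dsChar g)) := by
  letI := alg b (t ≫ tB b (Tw d))
  have h := isInv_zz hF
  rw [← hdz] at h
  exact isUnit_ysol d h (psi d t) (dsChar g)

/-- the cochain -/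
noncomputable def Ecob : Fam (Red.DS S M) (TB b (Tw d)) 1 := fun T' t g => ofU (isUnit_psi hF d hdz t (g 0)).unit

theorem toU_Ecob {T' : Over S} (t : T' ⟶ TB b (Tw d)) (g : Fin 1 → (T' ⟶ Red.DS S M)) :
    Units.val (toU (Ecob hF d hdz T' t g)) = ysol d (ringOf t.left : Tw d →+* Γ(T'.left, ⊤)) (dsChar (g 0)) := rfl

theorem isFam_Ecob : IsFam (Ecob hF d hdz) := by
  intro T' T'' f t g
  apply ext_toU
  rw [toU_res, toU_Ecob, toU_Ecob, ysol, map_sum, ysol]
  refine Finset.sum_congr rfl fun a _ => ?_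
  rw [map_mul, dsChar_comp]
  congr 1

theorem dF_Ecob : dF (Ecob hF d hdz) = resF (Red.DS S M) (tB b (Tw d)) F := by
  funext T' t g
  rw [dF_one]
  letI := alg b (t ≫ tB b (Tw d))
  have h1 : Ecob hF d hdz T' t (fun _ => g 0) + Ecob hF d hdz T' t (fun _ => g 1) =
      F T' (t ≫ tB b (Tw d)) ![g 0, g 1] + Ecob hF d hdz T' t (fun _ => g 0 * g 1) := by
    apply ext_toU
    rw [toU_add, toU_add, Units.val_mul, Units.val_mul, toU_Ecob, toU_Ecob, toU_Ecob, key hF]
    have h := ysol_mul d (psi d t) (dsChar (g 0)) (dsChar (g 1))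
    rw [hdz, ← dsChar_mul] at h
    exact h
  have h2 : g = ![g 0, g 1] := by
    funext i
    fin_cases i <;> rfl
  have h3 : resF (Red.DS S M) (tB b (Tw d)) F T' t g = F T' (t ≫ tB b (Tw d)) ![g 0, g 1] := by
    rw [← h2]
    rfl
  rw [h3, ← add_right_cancel_iff (a := Ecob hF d hdz T' t (fun _ => g 0 * g 1)), ← h1]
  abel

end cob

/-- **Affine base**: a 2-cocycle is étale-locally a coboundary. -/
theorem exists_cob {F : Fam (Red.DS S M) (T0 b) 2} (hF : IsFam F) (hd : dF F = 0) (hg : Good R (Multiplicative M)) :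
    ∃ (A : Type u) (_ : CommRing A) (_ : Algebra R A), Algebra.Etale R A ∧ Module.FaithfullyFlat R A ∧
      Module.Finite R A ∧ ∃ E : Fam (Red.DS S M) (TB b A) 1, IsFam E ∧ dF E = resF (Red.DS S M) (tB b A) F := by
  let d := dat hF hd (symm_of_good (isCoc_zz hF hd) (isInv_zz hF) hg)
  exact ⟨Tw d, inferInstance, inferInstance, etale d (isUnit_wz (isInv_zz hF)), faithfullyFlat d, inferInstance,
    Ecob hF d rfl, isFam_Ecob hF d rfl, dF_Ecob hF d rfl⟩

end fam

end K933.Bridge
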