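import Groth.Agent.StCoh.K933.TwAlg
import Groth.Agent.SchFin.K868.Conn

/-!
# 2-cocycles of `D(N)` with values in `G_m` are symmetric when `N` is cyclic or `D(N)` is connected
-/

set_option autoImplicit false
set_option linter.unusedSectionVars false

universe u

namespace K933.Comm

open Finset K933.TwAlg

variable {R : Type u} [CommRing R] {N : Type} [CommGroup N] [Fintype N] [DecidableEq N]

/-- `z` and `z'` are inverse to each other. -/
def IsInv (z z' : N → N → R) : Prop :=
  ∀ (B : Type u) [CommRing B] [Algebra R B] (g h : N →* B), ev2 z g h * ev2 z' g h = 1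

section conv

variable {B : Type u} [CommRing B] [Algebra R B]

/-- the ring homomorphism of evaluation -/
noncomputable def evH (R : Type u) [CommRing R] {B : Type u} [CommRing B] [Algebra R B] (g h : N →* B) :
    MonoidAlgebra R (N × N) →ₐ[R] B :=
  MonoidAlgebra.lift R B (N × N) (g.coprod h)

/-- a function as an element of the group algebra -/
noncomputable def toMA (z : N → N → R) : MonoidAlgebra R (N × N) :=
  ∑ a, ∑ b, algebraMap R (MonoidAlgebra R (N × N)) (z a b) * MonoidAlgebra.of R (N × N) (a, b)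

theorem evH_toMA (z : N → N → R) (g h : N →* B) : evH R g h (toMA z) = ev2 z g h := by
  simp only [toMA, ev2, map_sum, map_mul, AlgHom.commutes]
  refine Finset.sum_congr rfl fun a _ => Finset.sum_congr rfl fun b _ => ?_
  rw [evH, MonoidAlgebra.lift_of, MonoidHom.coprod_apply]

theorem toMA_coeff (z : N → N → R) (a b : N) : (toMA z).coeff (a, b) = z a b := by
  have h : toMA z = ∑ i : N × N, algebraMap R (MonoidAlgebra R (N × N)) (z i.1 i.2) * MonoidAlgebra.of R (N × N) i := by
    rw [Fintype.sum_prod_type]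
    rfl
  rw [h, coeff_sum]
  simp

theorem toMA_ofMA (C : MonoidAlgebra R (N × N)) : toMA (fun a b => C.coeff (a, b)) = C := by
  apply MonoidAlgebra.coeff_injective
  ext ⟨a, b⟩
  rw [toMA_coeff]

/-- Functions are determined by their values. -/
theorem ext_ev2 {z w : N → N → R}
    (h : ∀ (B : Type u) [CommRing B] [Algebra R B] (g h : N →* B), ev2 z g h = ev2 w g h) : z = w := by
  have h1 := h (MonoidAlgebra R (N × N)) ((MonoidAlgebra.of R (N × N)).comp (MonoidHom.inl N N))
    ((MonoidAlgebra.of R (N × N)).comp (MonoidHom.inr N N))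
  have h2 : ∀ y : N → N → R, ev2 y ((MonoidAlgebra.of R (N × N)).comp (MonoidHom.inl N N))
      ((MonoidAlgebra.of R (N × N)).comp (MonoidHom.inr N N)) = toMA y := by
    intro y
    unfold ev2 toMA
    refine Finset.sum_congr rfl fun a _ => Finset.sum_congr rfl fun b _ => ?_
    rw [MonoidHom.comp_apply, MonoidHom.comp_apply, ← map_mul, MonoidHom.inl_apply, MonoidHom.inr_apply, Prod.mk_mul_mk,
      mul_one, one_mul]
  rw [h2, h2] at h1
  funext a b
  rw [← toMA_coeff z, h1, toMA_coeff]

theorem ev2_swap (z : N → N → R) (g h : N →* B) : ev2 (fun a b => z b a) g h = ev2 z h g := by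
  unfold ev2
  rw [Finset.sum_comm]
  refine Finset.sum_congr rfl fun a _ => Finset.sum_congr rfl fun b _ => ?_
  rw [mul_comm (g b)]

/-- The commutator of a cocycle. -/
noncomputable def cm (z z' : N → N → R) : N → N → R := fun a b => (toMA z * toMA (fun a b => z' b a)).coeff (a, b)

theorem ev2_cm (z z' : N → N → R) (g h : N →* B) : ev2 (cm z z') g h = ev2 z g h * ev2 z' h g := by
  have h1 : toMA (cm z z') = toMA z * toMA (fun a b => z' b a) := toMA_ofMA _
  rw [← evH_toMA, h1, map_mul, evH_toMA, evH_toMA, ev2_swap z' g h]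

theorem ev2_comp {B' : Type u} [CommRing B'] [Algebra R B'] (φ : B →ₐ[R] B') (z : N → N → R) (g h : N →* B) :
    φ (ev2 z g h) = ev2 z ((φ : B →* B').comp g) ((φ : B →* B').comp h) := by
  simp only [ev2, map_sum, map_mul, AlgHom.commutes]
  rfl

theorem ev_comp {B' : Type u} [CommRing B'] [Algebra R B'] (φ : B →ₐ[R] B') (y : N → R) (g : N →* B) :
    φ (ev y g) = ev y ((φ : B →* B').comp g) := by
  simp only [ev, map_sum, map_mul, AlgHom.commutes]
  rfl

end conv

/-- bimultiplicative alternating functions -/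
structure Alt (c : N → N → R) : Prop where
  left : ∀ (B : Type u) [CommRing B] [Algebra R B] (g h k : N →* B), ev2 c (g * h) k = ev2 c g k * ev2 c h k
  right : ∀ (B : Type u) [CommRing B] [Algebra R B] (g h k : N →* B), ev2 c g (h * k) = ev2 c g h * ev2 c g k
  alt : ∀ (B : Type u) [CommRing B] [Algebra R B] (g : N →* B), ev2 c g g = 1
  one_right : ∀ (B : Type u) [CommRing B] [Algebra R B] (g : N →* B), ev2 c g 1 = 1
  one_left : ∀ (B : Type u) [CommRing B] [Algebra R B] (g : N →* B), ev2 c 1 g = 1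

theorem cm_left {z z' : N → N → R} (hz : IsCoc z) (hi : IsInv z z') (B : Type u) [CommRing B] [Algebra R B]
    (g h k : N →* B) : ev2 (cm z z') (g * h) k = ev2 (cm z z') g k * ev2 (cm z z') h k := by
  rw [ev2_cm, ev2_cm, ev2_cm]
  have c1 := hz B g h k
  have c2 := hz B k g h
  have c3 := hz B g k h
  rw [mul_comm k g] at c2
  rw [mul_comm k h] at c3
  have i1 := hi B k (g * h)
  have i2 := hi B k g
  have i3 := hi B k h
  have i4 := hi B g h
  have i5 := hi B (g * k) h
  -- clear denominators
  have u1 : IsUnit (ev2 z k (g * h)) := IsUnit.of_mul_eq_one _ i1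
  have u2 : IsUnit (ev2 z k g) := IsUnit.of_mul_eq_one _ i2
  have u3 : IsUnit (ev2 z k h) := IsUnit.of_mul_eq_one _ i3
  have u4 : IsUnit (ev2 z g h) := IsUnit.of_mul_eq_one _ i4
  have u5 : IsUnit (ev2 z (g * k) h) := IsUnit.of_mul_eq_one _ i5
  have key : ev2 z (g * h) k * ev2 z k g * ev2 z k h = ev2 z g k * ev2 z h k * ev2 z k (g * h) := by
    apply (u4.mul u5).mul_right_cancel
    linear_combination (-(ev2 z k g * ev2 z k h * ev2 z (g * k) h)) * c1 - (ev2 z g k * ev2 z h k * ev2 z (g * k) h) * c2 +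
      (ev2 z h k * ev2 z k g * ev2 z (g * k) h) * c3
  apply (u1.mul (u2.mul u3)).mul_right_cancel
  calc ev2 z (g * h) k * ev2 z' k (g * h) * (ev2 z k (g * h) * (ev2 z k g * ev2 z k h))
      = (ev2 z k (g * h) * ev2 z' k (g * h)) * (ev2 z (g * h) k * ev2 z k g * ev2 z k h) := by ring
    _ = ev2 z g k * ev2 z h k * ev2 z k (g * h) := by rw [i1, one_mul, key]
    _ = ev2 z g k * ev2 z h k * ev2 z k (g * h) * (ev2 z k g * ev2 z' k g) * (ev2 z k h * ev2 z' k h) := by
        rw [i2, i3, mul_one, mul_one]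
    _ = _ := by ring

theorem isAlt_cm {z z' : N → N → R} (hz : IsCoc z) (hi : IsInv z z') : Alt (cm z z') := by
  have hanti : ∀ (B : Type u) [CommRing B] [Algebra R B] (g h : N →* B),
      ev2 (cm z z') g h * ev2 (cm z z') h g = 1 := by
    intro B _ _ g h
    rw [ev2_cm, ev2_cm]
    calc _ = (ev2 z g h * ev2 z' g h) * (ev2 z h g * ev2 z' h g) := by ring
      _ = 1 := by rw [hi, hi, one_mul]
  have hl := fun (B : Type u) [CommRing B] [Algebra R B] (g h k : N →* B) => cm_left hz hi B g h k
  have h1l : ∀ (B : Type u) [CommRing B] [Algebra R B] (g : N →* B), ev2 (cm z z') 1 g = 1 := by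
    intro B _ _ g
    have h := hl B 1 1 g
    rw [one_mul] at h
    have u1 : IsUnit (ev2 (cm z z') 1 g) := IsUnit.of_mul_eq_one _ (hanti B 1 g)
    apply u1.mul_right_cancel
    rw [one_mul, ← h]
  refine ⟨hl, ?_, ?_, ?_, h1l⟩
  · intro B _ _ g h k
    have u1 : IsUnit (ev2 (cm z z') (h * k) g) := IsUnit.of_mul_eq_one _ (hanti B _ _)
    apply u1.mul_right_cancel
    rw [hanti, hl]
    calc (1 : B) = (ev2 (cm z z') g h * ev2 (cm z z') h g) * (ev2 (cm z z') g k * ev2 (cm z z') k g) := by
          rw [hanti, hanti, one_mul]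
      _ = _ := by ring
  · intro B _ _ g
    rw [ev2_cm, hi]
  · intro B _ _ g
    have h := hanti B g 1
    rwa [h1l, mul_one] at h

/-- the components -/
noncomputable def E (c : N → N → R) (n : N) : MonoidAlgebra R N := ev (fun a => c a n) (MonoidAlgebra.of R N)

theorem ev2_eq {B : Type u} [CommRing B] [Algebra R B] (c : N → N → R) (g h : N →* B) :
    ev2 c g h = ∑ n, ev (fun a => c a n) g * h n := by
  unfold ev2 ev
  rw [Finset.sum_comm]
  refine Finset.sum_congr rfl fun n _ => ?_
  rw [Finset.sum_mul]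
  exact Finset.sum_congr rfl fun a _ => by rw [mul_assoc]

theorem lift_E {B : Type u} [CommRing B] [Algebra R B] (c : N → N → R) (g : N →* B) (n : N) :
    MonoidAlgebra.lift R B N g (E c n) = ev (fun a => c a n) g := by
  rw [E, ev_comp]
  congr 1
  ext a
  exact MonoidAlgebra.lift_of _ _

theorem E_mul {c : N → N → R} (hc : Alt c) (n n' : N) : E c n * E c n' = if n = n' then E c n else 0 := by
  let B0 := MonoidAlgebra R N
  let B := MonoidAlgebra B0 (N × N)
  let j : B0 →ₐ[R] B := IsScalarTower.toAlgHom R B0 B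
  let g : N →* B := (j : B0 →* B).comp (MonoidAlgebra.of R N)
  let h : N →* B := (MonoidAlgebra.of B0 (N × N)).comp (MonoidHom.inl N N)
  let k : N →* B := (MonoidAlgebra.of B0 (N × N)).comp (MonoidHom.inr N N)
  have hE : ∀ m, ev (fun a => c a m) g = algebraMap B0 B (E c m) := fun m => (ev_comp j _ _).symm
  have h1 := hc.right B g h k
  rw [ev2_eq, ev2_eq, ev2_eq] at h1
  simp only [hE] at h1
  have h2 : (∑ m, algebraMap B0 B (E c m) * (h * k) m) =
      ∑ i : N, algebraMap B0 B (E c i) * MonoidAlgebra.of B0 (N × N) (i, i) := by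
    refine Finset.sum_congr rfl fun m _ => ?_
    rw [MonoidHom.mul_apply, MonoidHom.comp_apply, MonoidHom.comp_apply, ← map_mul, MonoidHom.inl_apply,
      MonoidHom.inr_apply, Prod.mk_mul_mk, mul_one, one_mul]
  have h3 : (∑ m, algebraMap B0 B (E c m) * h m) * (∑ m, algebraMap B0 B (E c m) * k m) =
      ∑ i : N × N, algebraMap B0 B (E c i.1 * E c i.2) * MonoidAlgebra.of B0 (N × N) i := by
    rw [Fintype.sum_prod_type, Finset.sum_mul]
    refine Finset.sum_congr rfl fun a _ => ?_
    rw [Finset.mul_sum]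
    refine Finset.sum_congr rfl fun b _ => ?_
    have e : MonoidAlgebra.of B0 (N × N) (a, b) = h a * k b := by
      rw [MonoidHom.comp_apply, MonoidHom.comp_apply, ← map_mul, MonoidHom.inl_apply, MonoidHom.inr_apply,
        Prod.mk_mul_mk, mul_one, one_mul]
    rw [e, map_mul]
    ring
  rw [h2, h3] at h1
  have h4 := congrArg (fun w => w.coeff (n, n')) h1
  have h5 := (coeff_sum (fun i : N => E c i) (fun i : N => (i, i)) (n, n')).symm.trans
    (h4.trans (coeff_sum (fun i : N × N => E c i.1 * E c i.2) (fun i : N × N => i) (n, n')))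
  rw [Finset.sum_ite_eq' Finset.univ (n, n'), if_pos (Finset.mem_univ _)] at h5
  rw [← h5]
  by_cases hn : n = n'
  · subst hn
    simp
  · rw [if_neg hn]
    refine Finset.sum_eq_zero fun i _ => ?_
    rw [if_neg]
    intro h
    rw [Prod.mk.injEq] at h
    exact hn (h.1.symm.trans h.2)

theorem sum_E {c : N → N → R} (hc : Alt c) : ∑ n, E c n = 1 := by
  have h := hc.one_right (MonoidAlgebra R N) (MonoidAlgebra.of R N)
  rw [ev2_eq] at h
  rw [← h]
  refine Finset.sum_congr rfl fun n _ => ?_
  rw [MonoidHom.one_apply, mul_one, E]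

theorem counit_E {c : N → N → R} (hc : Alt c) {B : Type u} [CommRing B] [Algebra R B] (n : N) :
    ev (fun a => c a n) (1 : N →* B) = if 1 = n then 1 else 0 := by
  have h := hc.one_left (MonoidAlgebra R N) (MonoidAlgebra.of R N)
  rw [ev2_eq] at h
  have h1 : ∀ m, ev (fun a => c a m) (1 : N →* MonoidAlgebra R N) = algebraMap R _ (∑ a, c a m) := by
    intro m
    simp [ev]
  simp only [h1] at h
  have h2 := congrArg (fun w => w.coeff n) h
  simp only [coeff_sum] at h2
  rw [← map_one (algebraMap R (MonoidAlgebra R N)), coeff_algebraMap] at h2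
  simp only [Finset.sum_ite_eq', Finset.mem_univ, if_true] at h2
  have h3 : ev (fun a => c a n) (1 : N →* B) = algebraMap R B (∑ a, c a n) := by
    simp [ev]
  rw [h3, h2]
  split_ifs <;> simp

theorem eq_one_of_E {c : N → N → R} (hc : Alt c) (h : ∀ n, n ≠ 1 → E c n = 0) (B : Type u) [CommRing B] [Algebra R B]
    (g k : N →* B) : ev2 c g k = 1 := by
  have h1 : E c 1 = 1 := by
    rw [← sum_E hc, Finset.sum_eq_single 1]
    · intro n _ hn
      exact h n hn
    · intro h
      exact absurd (Finset.mem_univ _) h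
  rw [ev2_eq, Finset.sum_eq_single 1]
  · rw [← lift_E, h1, map_one, map_one, one_mul]
  · intro n _ hn
    rw [← lift_E, h n hn, map_zero, zero_mul]
  · intro h
    exact absurd (Finset.mem_univ _) h

/-- Case A: `D(N)` connected. -/
theorem E_zero_of_connected {c : N → N → R} (hc : Alt c) [ConnectedSpace (PrimeSpectrum (MonoidAlgebra R N))] (n : N)
    (hn : n ≠ 1) : E c n = 0 := by
  have h1 : E c n * E c n = E c n := by rw [E_mul hc, if_pos rfl]
  rcases ((K868.SchFin.connectedSpace_primeSpectrum_iff _).1 inferInstance).2 _ h1 with h | h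
  · exact h
  · have h2 := lift_E c (1 : N →* R) n
    rw [h, map_one, counit_E hc, if_neg (Ne.symm hn)] at h2
    have : Subsingleton R := subsingleton_of_zero_eq_one h2.symm
    have : Subsingleton (MonoidAlgebra R N) := Module.subsingleton R _
    exact Subsingleton.elim _ _

/-- Reduction to geometric points. -/
theorem E_zero_of_pts {c : N → N → R} (hc : Alt c) (n : N)
    (h : ∀ (k : Type u) [Field k] [IsAlgClosed k] [Algebra R k] (g : N →* k), ev (fun a => c a n) g = 0) : E c n = 0 := by
  have h1 : IsIdempotentElem (E c n) := by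
    change E c n * E c n = E c n
    rw [E_mul hc, if_pos rfl]
  have h2 : IsNilpotent (E c n) := by
    rw [← mem_nilradical, nilradical_eq_sInf, Ideal.mem_sInf]
    intro Q hQ
    have hQ' : Q.IsPrime := hQ
    let φ : MonoidAlgebra R N →ₐ[R] AlgebraicClosure Q.ResidueField :=
      IsScalarTower.toAlgHom R (MonoidAlgebra R N) (AlgebraicClosure Q.ResidueField)
    have h3 : φ (E c n) = 0 := by
      rw [E, ev_comp]
      exact h _ _
    have h4 : algebraMap (MonoidAlgebra R N) Q.ResidueField (E c n) = 0 := by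
      apply (algebraMap Q.ResidueField (AlgebraicClosure Q.ResidueField)).injective
      rw [map_zero, ← IsScalarTower.algebraMap_apply]
      exact h3
    rwa [Ideal.algebraMap_residueField_eq_zero] at h4
  obtain ⟨m, hm⟩ := h2
  cases m with
  | zero =>
    rw [pow_zero] at hm
    rw [← mul_one (E c n), hm, mul_zero]
  | succ m => rwa [h1.pow_succ_eq] at hm

section field

variable {c : N → N → R} (hc : Alt c) {k : Type u} [Field k] [Algebra R k]

include hc

theorem pow_left {B : Type u} [CommRing B] [Algebra R B] (g h : N →* B) (i : ℕ) :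
    ev2 c (g ^ i) h = ev2 c g h ^ i := by
  induction i with
  | zero => rw [pow_zero, pow_zero, hc.one_left]
  | succ i ih => rw [pow_succ, pow_succ, hc.left, ih]

/-- the algebra of a point -/
theorem exists_nu (g : N →* k) : ∃ ν : N, ∀ n, ev (fun a => c a n) g = if n = ν then 1 else 0 := by
  have hs : ∑ n, ev (fun a => c a n) g = 1 := by
    have h := congrArg (MonoidAlgebra.lift R k N g) (sum_E hc)
    rw [map_sum, map_one] at h
    rw [← h]
    exact Finset.sum_congr rfl fun n _ => (lift_E c g n).symm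
  have hm : ∀ n n', ev (fun a => c a n) g * ev (fun a => c a n') g = if n = n' then ev (fun a => c a n) g else 0 := by
    intro n n'
    have h := congrArg (MonoidAlgebra.lift R k N g) (E_mul hc n n')
    rw [map_mul, lift_E, lift_E] at h
    rw [h]
    split_ifs
    · rw [lift_E]
    · rw [map_zero]
  have hex : ∃ ν, ev (fun a => c a ν) g ≠ 0 := by
    by_contra hcon
    push Not at hcon
    rw [Finset.sum_eq_zero fun n _ => hcon n] at hs
    exact zero_ne_one hs
  obtain ⟨ν, hν⟩ := hex
  have h1 : ev (fun a => c a ν) g = 1 := by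
    have := hm ν ν
    rw [if_pos rfl] at this
    exact mul_left_cancel₀ hν (by rw [this, mul_one])
  refine ⟨ν, fun n => ?_⟩
  by_cases hn : n = ν
  · subst hn
    rw [if_pos rfl, h1]
  · rw [if_neg hn]
    have := hm n ν
    rwa [if_neg hn, h1, mul_one] at this

/-- numeric case: `D(N)` has no non-trivial geometric points -/
theorem pts_trivial (hl : ∀ ℓ : ℕ, ℓ.Prime → ℓ ∣ Fintype.card N → (ℓ : k) = 0) (g : N →* k) (n : N) (hn : n ≠ 1) :
    ev (fun a => c a n) g = 0 := by
  have hg : g = 1 := by
    by_cases h1 : Fintype.card N = 1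
    · ext a
      have := Fintype.card_eq_one_iff_nonempty_unique.1 h1
      obtain ⟨hu⟩ := this
      rw [Subsingleton.elim a 1, map_one, MonoidHom.one_apply]
    · obtain ⟨p, hp, hpd⟩ := Nat.exists_prime_and_dvd h1
      have hp0 := hl p hp hpd
      have : Fact p.Prime := ⟨hp⟩
      have : CharP k p := (CharP.charP_iff_prime_eq_zero hp).2 hp0
      have hall : ∀ {q : ℕ}, q.Prime → q ∣ Fintype.card N → q = p := by
        intro q hq hqd
        exact (CharP.charP_iff_prime_eq_zero hq).2 (hl q hq hqd) |>.eq k inferInstance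
      have hcard := Nat.eq_prime_pow_of_unique_prime_dvd (Fintype.card_ne_zero) hall
      ext a
      have h2 : g a ^ Fintype.card N = 1 := by
        rw [← map_pow, pow_card_eq_one, map_one]
      rw [hcard] at h2
      rw [MonoidHom.one_apply]
      have : ExpChar k p := ExpChar.prime hp
      exact (ExpChar.pow_prime_pow_mul_eq_one_iff p _ 1 (g a)).1 (by rwa [mul_one]) |> (by simpa using ·)
  rw [hg, counit_E hc, if_neg (Ne.symm hn)]

/-- cyclic case -/
theorem pts_cyclic [IsCyclic N] [IsAlgClosed k] (g : N →* k) (n : N) (hn : n ≠ 1) :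
    ev (fun a => c a n) g = 0 := by
  obtain ⟨m0, hm0⟩ := IsCyclic.exists_generator (α := N)
  have hord : orderOf m0 = Fintype.card N := orderOf_eq_card_of_forall_mem_zpowers hm0 |>.trans (Nat.card_eq_fintype_card)
  let n0 := Fintype.card N
  have hn0 : 0 < n0 := Fintype.card_pos
  have : NeZero n0 := ⟨hn0.ne'⟩
  -- characters with given value
  have hch : ∀ ζ : kˣ, ζ ^ n0 = 1 → ∃ g : N →* k, g m0 = ζ := by
    intro ζ hζ
    refine ⟨(Units.coeHom k).comp (monoidHomOfForallMemZpowers hm0 (g' := ζ) ?_), ?_⟩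
    · rw [hord]
      exact orderOf_dvd_of_pow_eq_one hζ
    · rw [MonoidHom.comp_apply, monoidHomOfForallMemZpowers_apply_gen]
      rfl
  have hext : ∀ {B : Type u} [CommRing B] (g g' : N →* B), g m0 = g' m0 → g = g' := by
    intro B _ g g' h
    ext a
    obtain ⟨i, rfl⟩ := (mem_powers_iff_mem_zpowers).2 (hm0 a)
    change g (m0 ^ i) = g' (m0 ^ i)
    rw [map_pow, map_pow, h]
  -- the generator
  obtain ⟨⟨ζ0, hζ0⟩, hgen⟩ := IsCyclic.exists_generator (α := rootsOfUnity n0 k)
  rw [mem_rootsOfUnity] at hζ0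
  obtain ⟨g0, hg0⟩ := hch ζ0 hζ0
  have hpow : ∀ g : N →* k, ∃ i : ℕ, g = g0 ^ i := by
    intro g
    have h1 : g m0 ^ n0 = 1 := by rw [← map_pow, pow_card_eq_one, map_one]
    let x : rootsOfUnity n0 k := rootsOfUnity.mkOfPowEq (g m0) h1
    obtain ⟨i, hi⟩ := (mem_powers_iff_mem_zpowers).2 (hgen x)
    refine ⟨i, hext _ _ ?_⟩
    have h2 := congrArg (fun y : rootsOfUnity n0 k => ((y : kˣ) : k)) hi
    simp only [] at h2
    rw [MonoidHom.pow_apply, hg0]
    simpa [x] using h2.symm
  obtain ⟨ν, hν⟩ := exists_nu hc g0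
  have hv : ∀ {B : Type u} [CommRing B] [Algebra R B] [Algebra k B] [IsScalarTower R k B] (h : N →* B),
      ev2 c ((algebraMap k B : k →* B).comp g0) h = h ν := by
    intro B _ _ _ _ h
    rw [ev2_eq]
    have : ∀ m, ev (fun a => c a m) ((algebraMap k B : k →* B).comp g0) = if m = ν then 1 else 0 := by
      intro m
      have h1 := ev_comp (IsScalarTower.toAlgHom R k B) (fun a => c a m) g0
      rw [hν] at h1
      refine h1.symm.trans ?_
      split_ifs <;> simp
    simp [this]
  have hν1 : g0 ν = 1 := by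
    have h1 := hv (B := k) g0
    have h2 : ((algebraMap k k : k →* k).comp g0) = g0 := by
      ext
      rfl
    rw [h2, hc.alt] at h1
    exact h1.symm
  have hall : ∀ g : N →* k, g ν = 1 := by
    intro g
    obtain ⟨i, rfl⟩ := hpow g
    rw [MonoidHom.pow_apply, hν1, one_pow]
  have hvone : ν = 1 := by
    by_contra hne
    have hr : orderOf ν ≠ 1 := by rwa [Ne, orderOf_eq_one_iff]
    obtain ⟨ℓ, hℓ, hℓd⟩ := Nat.exists_prime_and_dvd hr
    have hν2 : ν ^ Nat.card (rootsOfUnity n0 k) = 1 := by
      have h1 : g0 ^ Nat.card (rootsOfUnity n0 k) = 1 := by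
        apply hext
        rw [MonoidHom.pow_apply, hg0, MonoidHom.one_apply]
        have h2 := congrArg (fun y : rootsOfUnity n0 k => ((y : kˣ) : k))
          (pow_card_eq_one' (G := rootsOfUnity n0 k) (x := ⟨ζ0, (mem_rootsOfUnity _ _).2 hζ0⟩))
        simpa using h2
      let B := MonoidAlgebra k N
      have h2 := hv (B := B) (MonoidAlgebra.of k N)
      have h3 := pow_left hc ((algebraMap k B : k →* B).comp g0) (MonoidAlgebra.of k N) (Nat.card (rootsOfUnity n0 k))
      rw [h2, ← map_pow] at h3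
      have h4 : ((algebraMap k B : k →* B).comp g0) ^ Nat.card (rootsOfUnity n0 k) = 1 := by
        ext a
        rw [MonoidHom.pow_apply, MonoidHom.comp_apply, ← map_pow, ← MonoidHom.pow_apply, h1]
        simp
      rw [h4, hc.one_left] at h3
      have h5 : Function.Injective (MonoidAlgebra.of k N) := MonoidAlgebra.of_injective
      exact h5 (by rw [← h3, map_one])
    have hℓU : ℓ ∣ Nat.card (rootsOfUnity n0 k) := hℓd.trans (orderOf_dvd_of_pow_eq_one hν2)
    have : Fact ℓ.Prime := ⟨hℓ⟩
    obtain ⟨⟨ω, hω⟩, hωo⟩ := exists_prime_orderOf_dvd_card' ℓ hℓU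
    have hωo' : orderOf ω = ℓ := by
      rw [← hωo]
      exact (Subgroup.orderOf_coe (⟨ω, hω⟩ : rootsOfUnity n0 k))
    have hℓn : ℓ ∣ n0 := hℓd.trans (orderOf_dvd_card)
    obtain ⟨q, hq⟩ := hℓn
    have hq0 : 0 < q := by
      rcases Nat.eq_zero_or_pos q with h | h
      · rw [h, mul_zero] at hq
        omega
      · exact h
    obtain ⟨ζ, hζ⟩ := IsAlgClosed.exists_pow_nat_eq (ω : k) hq0
    have hζ0 : ζ ≠ 0 := by
      rintro rfl
      rw [zero_pow hq0.ne'] at hζ
      exact ω.ne_zero hζ.symm
    have hζu : (Units.mk0 ζ hζ0) ^ q = ω := Units.ext hζ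
    have hζn : (Units.mk0 ζ hζ0) ^ n0 = 1 := by
      rw [hq, mul_comm, pow_mul, hζu, ← hωo', pow_orderOf_eq_one]
    obtain ⟨g1, hg1⟩ := hch _ hζn
    -- an element of order ℓ
    obtain ⟨r', hr'⟩ := hℓd
    obtain ⟨t, ht⟩ := (mem_powers_iff_mem_zpowers).2 (hm0 (ν ^ r'))
    have ht' : m0 ^ t = ν ^ r' := ht
    have h6 : m0 ^ (t * ℓ) = 1 := by
      rw [pow_mul, ht', ← pow_mul, mul_comm, ← hr', pow_orderOf_eq_one]
    have h7 : n0 ∣ t * ℓ := by
      have := orderOf_dvd_of_pow_eq_one h6
      rwa [hord] at this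
    obtain ⟨j, hj⟩ : q ∣ t := by
      rw [hq, mul_comm] at h7
      exact Nat.dvd_of_mul_dvd_mul_right hℓ.pos h7
    have h8 : g1 (ν ^ r') = 1 := by rw [map_pow, hall, one_pow]
    rw [← ht', map_pow, hg1, hj, pow_mul] at h8
    have h9 : ω ^ j = 1 := by
      apply Units.ext
      rw [Units.val_pow_eq_pow_val, Units.val_one]
      have : ((Units.mk0 ζ hζ0 : kˣ) : k) ^ q = ω := hζ
      rw [← this]
      exact h8
    have h10 : ℓ ∣ j := by
      rw [← hωo']
      exact orderOf_dvd_of_pow_eq_one h9
    obtain ⟨j', hj'⟩ := h10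
    have h11 : ν ^ r' = 1 := by
      rw [← ht', hj, hj', ← mul_assoc, mul_comm q ℓ, ← hq, pow_mul]
      have : m0 ^ n0 = 1 := pow_card_eq_one
      rw [this, one_pow]
    have h12 := orderOf_dvd_of_pow_eq_one h11
    rw [hr'] at h12
    have hr'0 : 0 < r' := by
      rcases Nat.eq_zero_or_pos r' with h | h
      · rw [h, mul_zero] at hr'
        exact absurd hr' (orderOf_pos ν).ne'
      · exact h
    have h13 := Nat.le_of_dvd hr'0 h12
    have := hℓ.two_le
    nlinarith
  -- conclusion
  obtain ⟨μ, hμ⟩ := exists_nu hc g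
  obtain ⟨i, hi⟩ := hpow g
  have h1 : μ = 1 := by
    let B := MonoidAlgebra k N
    have h2 : ev2 c ((algebraMap k B : k →* B).comp g) (MonoidAlgebra.of k N) = 1 := by
      have h3 : ((algebraMap k B : k →* B).comp g) = ((algebraMap k B : k →* B).comp g0) ^ i := by
        ext a
        rw [MonoidHom.pow_apply, MonoidHom.comp_apply, MonoidHom.comp_apply, hi, MonoidHom.pow_apply, map_pow]
      rw [h3, pow_left hc, hv, hvone, map_one, one_pow]
    rw [ev2_eq] at h2
    have : ∀ m, ev (fun a => c a m) ((algebraMap k B : k →* B).comp g) = if m = μ then 1 else 0 := by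
      intro m
      have h1 := ev_comp (IsScalarTower.toAlgHom R k B) (fun a => c a m) g
      rw [hμ] at h1
      refine h1.symm.trans ?_
      split_ifs <;> simp
    simp only [this, ite_mul, one_mul, zero_mul, Finset.sum_ite_eq', Finset.mem_univ, if_true] at h2
    have h5 : Function.Injective (MonoidAlgebra.of k N) := MonoidAlgebra.of_injective
    exact h5 (by rw [h2, map_one])
  rw [hμ, h1, if_neg hn]

end field

/-- The condition on `(R, N)` under which 2-cocycles are symmetric. -/
def Good (R : Type u) [CommRing R] (N : Type) [CommGroup N] [Fintype N] : Prop :=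
  IsCyclic N ∨ (∀ (k : Type u) [Field k] [Algebra R k] (ℓ : ℕ), ℓ.Prime → ℓ ∣ Fintype.card N → (ℓ : k) = 0) ∨
    ConnectedSpace (PrimeSpectrum (MonoidAlgebra R N))

theorem symm_of_good {z z' : N → N → R} (hz : IsCoc z) (hi : IsInv z z') (hg : Good R N) (a b : N) : z a b = z b a := by
  have hc := isAlt_cm hz hi
  have hE : ∀ n, n ≠ 1 → E (cm z z') n = 0 := by
    intro n hn
    rcases hg with h | h | h
    · exact E_zero_of_pts hc n fun k _ _ _ g => pts_cyclic hc g n hn
    · exact E_zero_of_pts hc n fun k _ _ _ g => pts_trivial hc (fun ℓ h1 h2 => h k ℓ h1 h2) g n hn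
    · exact E_zero_of_connected hc n hn
  have h1 : z = fun a b => z b a := by
    apply ext_ev2
    intro B _ _ g h
    rw [ev2_swap z g h]
    have h2 := eq_one_of_E hc hE B g h
    rw [ev2_cm] at h2
    calc ev2 z g h = ev2 z g h * (ev2 z h g * ev2 z' h g) := by rw [hi, mul_one]
      _ = (ev2 z g h * ev2 z' h g) * ev2 z h g := by ring
      _ = _ := by rw [h2, one_mul]
  exact congrFun (congrFun h1 a) b

end K933.Comm
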