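import Groth.Agent.StCoh.K933.Bridge
import Groth.Agent.StCoh.K998.Hens
import Groth.Agent.StCoh.K998.RPush
import Groth.Agent.StCoh.K998.HOne

/-!
# Hochschild 2-cocycles of diagonalizable groups die étale-locally
-/

set_option autoImplicit false
set_option linter.unusedSectionVars false
set_option backward.isDefEq.respectTransparency false
set_option backward.isDefEq.respectTransparency.types false

universe u

open CategoryTheory CategoryTheory.Limits Opposite AlgebraicGeometry MonoidalCategory CartesianMonoidalCategory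
open scoped MonObj GrpObj

namespace K933.HTwo

open K998.BGc K998.Dual K933.TwAlg K933.Comm K933.Bridge Groth.Agent.Sga3B.DSPts

/-- If `Spec k[N]` is connected then the primes dividing the order of `N` vanish in `k`. -/
theorem prime_eq_zero (k : Type u) [Field k] (N : Type) [CommGroup N] [Finite N]
    (h : ConnectedSpace (PrimeSpectrum (MonoidAlgebra k N))) (ℓ : ℕ) (hl : ℓ.Prime) (hd : ℓ ∣ Nat.card N) :
    (ℓ : k) = 0 := by
  by_contra h0
  have : Fact ℓ.Prime := ⟨hl⟩
  obtain ⟨m, hm⟩ := exists_prime_orderOf_dvd_card' ℓ hd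
  let s : MonoidAlgebra k N := ∑ i ∈ Finset.range ℓ, MonoidAlgebra.of k N (m ^ i)
  have hs : MonoidAlgebra.of k N m * s = s := by
    have e1 : MonoidAlgebra.of k N m * s = ∑ i ∈ Finset.range ℓ, MonoidAlgebra.of k N (m ^ (i + 1)) := by
      rw [Finset.mul_sum]
      refine Finset.sum_congr rfl fun i _ => ?_
      rw [← map_mul, pow_succ']
    have e2 := Finset.sum_range_succ (fun i => MonoidAlgebra.of k N (m ^ i)) ℓ
    rw [Finset.sum_range_succ', ← hm, pow_orderOf_eq_one, hm, pow_zero] at e2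
    rw [e1]
    exact add_right_cancel e2
  have hs2 : ∀ i : ℕ, MonoidAlgebra.of k N (m ^ i) * s = s := by
    intro i
    induction i with
    | zero => rw [pow_zero, map_one, one_mul]
    | succ i ih => rw [pow_succ, map_mul, mul_assoc, hs, ih]
  have hss : s * s = (ℓ : k) • s := by
    have e1 : s * s = ∑ i ∈ Finset.range ℓ, MonoidAlgebra.of k N (m ^ i) * s := Finset.sum_mul _ _ _
    rw [e1, Finset.sum_congr rfl fun i _ => hs2 i, Finset.sum_const, Finset.card_range, Nat.cast_smul_eq_nsmul]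
  have he : ((ℓ : k)⁻¹ • s) * ((ℓ : k)⁻¹ • s) = (ℓ : k)⁻¹ • s := by
    rw [smul_mul_smul_comm, hss, smul_smul, mul_assoc, inv_mul_cancel₀ h0, mul_one]
  rcases ((K868.SchFin.connectedSpace_primeSpectrum_iff _).1 h).2 _ he with h1 | h1
  · have h2 : s = 0 := (smul_eq_zero.1 h1).resolve_left (inv_ne_zero h0)
    have h3 : MonoidAlgebra.lift k k N (1 : N →* k) s = ℓ := by
      rw [map_sum]
      simp
    rw [h2, map_zero] at h3
    exact h0 h3.symm
  · have h2 : MonoidAlgebra.of k N m = 1 := by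
      rw [← mul_one (MonoidAlgebra.of k N m), ← h1, mul_smul_comm, hs]
    have h3 : m = 1 := MonoidAlgebra.of_injective (h2.trans (map_one _).symm)
    rw [h3, orderOf_one] at hm
    exact hl.one_lt.ne hm

/-- Good rings from the fibres. -/
theorem good_of {S : Scheme.{u}} {R : Type u} [CommRing R] (b : Spec (CommRingCat.of R) ⟶ S) (M : Type)
    [AddCommGroup M] [Fintype M]
    (hM : IsAddCyclic M ∨
      ∀ s : S, ConnectedSpace ↥(Spec (CommRingCat.of (MonoidAlgebra (S.residueField s) (Multiplicative M))))) :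
    K933.Comm.Good R (Multiplicative M) := by
  rcases hM with hM | hM
  · exact Or.inl inferInstance
  · refine Or.inr (Or.inl fun k _ _ ℓ hl hd => ?_)
    let f : Spec (CommRingCat.of k) ⟶ S := Spec.map (CommRingCat.ofHom (algebraMap R k)) ≫ b
    let s : S := f (IsLocalRing.closedPoint k)
    let φ : S.residueField s →+* k := (Scheme.descResidueField (Scheme.stalkClosedPointTo f)).hom
    have h1 := prime_eq_zero (S.residueField s) (Multiplicative M) (hM s) ℓ hl (by rwa [Nat.card_eq_fintype_card])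
    rw [← map_natCast φ, h1, map_zero]

section trans

variable {S : Scheme.{u}} {G G' : Over S} [GrpObj G] [GrpObj G']

/-- Transport of families along a homomorphism. -/
def mapF (φ : G ⟶ G') {T : Over S} {n : ℕ} (F : Fam G' T n) : Fam G T n := fun T' t g => F T' t (fun i => g i ≫ φ)

theorem isFam_mapF (φ : G ⟶ G') {T : Over S} {n : ℕ} {F : Fam G' T n} (hF : IsFam F) : IsFam (mapF φ F) := by
  intro T' T'' f t g
  rw [mapF, hF f t]
  simp only [mapF, Category.assoc]

theorem dF_mapF (φ : G ⟶ G') [IsMonHom φ] {T : Over S} {n : ℕ} (F : Fam G' T n) : dF (mapF φ F) = mapF φ (dF F) := by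
  funext T' t g
  have h : ∀ j : Fin (n + 1), (fun i => Fin.contractNth j (· * ·) g i ≫ φ) =
      Fin.contractNth j (· * ·) (fun i => g i ≫ φ) := by
    intro j
    have := Fin.comp_contractNth (f := fun x : T' ⟶ G => x ≫ φ) (· * ·) (· * ·) (fun x y => MonObj.mul_comp x y φ) j g
    exact this
  simp only [dF, mapF, h]

theorem mapF_mapF {G'' : Over S} [GrpObj G''] (φ : G ⟶ G') (ψ : G' ⟶ G'') {T : Over S} {n : ℕ} (F : Fam G'' T n) :
    mapF φ (mapF ψ F) = mapF (φ ≫ ψ) F := by
  funext T' t g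
  simp only [mapF, Category.assoc]

theorem mapF_id {T : Over S} {n : ℕ} (F : Fam G T n) : mapF (𝟙 G) F = F := by
  funext T' t g
  simp only [mapF, Category.comp_id]

theorem resF_mapF (φ : G ⟶ G') {T T' : Over S} (f : T' ⟶ T) {n : ℕ} (F : Fam G' T n) :
    resF G f (mapF φ F) = mapF φ (resF G' f F) := rfl

theorem isFam_resF {T T' : Over S} (f : T' ⟶ T) {n : ℕ} {F : Fam G T n} (hF : IsFam F) : IsFam (resF G f F) := by
  intro T₁ T₂ g t x
  rw [resF, hF g (t ≫ f), resF, Category.assoc]

theorem dF_resF {T T' : Over S} (f : T' ⟶ T) {n : ℕ} (F : Fam G T n) : dF (resF G f F) = resF G f (dF F) := rfl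

theorem resF_resF {T T' T'' : Over S} (f : T' ⟶ T) (f' : T'' ⟶ T') {n : ℕ} (F : Fam G T n) :
    resF G f' (resF G f F) = resF G (f' ≫ f) F := by
  funext T₁ t g
  simp only [resF, Category.assoc]

theorem resF_id {T : Over S} {n : ℕ} (F : Fam G T n) : resF G (𝟙 T) F = F := by
  funext T₁ t g
  simp only [resF, Category.comp_id]

end trans

/-- Étale-locally on the base the 2-cocycles of `D_S(M)` are coboundaries. -/
theorem exists_cob_etale {S : Scheme.{u}} (M : Type) [AddCommGroup M] [Finite M] {T : Over S}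
    (hM : IsAddCyclic M ∨
      ∀ s : S, ConnectedSpace ↥(Spec (CommRingCat.of (MonoidAlgebra (S.residueField s) (Multiplicative M)))))
    {F : Fam (Red.DS S M) T 2} (hF : IsFam F) (hd : dF F = 0) (τ : T.left) :
    ∃ (T' : Over S) (g : T' ⟶ T), Etale g.left ∧ τ ∈ Set.range g.left ∧
      ∃ E : Fam (Red.DS S M) T' 1, IsFam E ∧ dF E = resF (Red.DS S M) g F := by
  classical
  have := Fintype.ofFinite M
  obtain ⟨V, hV, hτ, -⟩ := exists_isAffineOpen_mem_and_subset (X := T.left) (x := τ) (U := ⊤) trivial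
  let R : Type u := Γ(T.left, V)
  let b : Spec (CommRingCat.of R) ⟶ S := hV.fromSpec ≫ T.hom
  let j : T0 b ⟶ T := Over.homMk hV.fromSpec rfl
  have hd' : dF (resF (Red.DS S M) j F) = 0 := by
    rw [dF_resF, hd]
    rfl
  obtain ⟨A, _, _, hA1, hA2, hA3, E, hE, hdE⟩ := exists_cob (isFam_resF j hF) hd' (good_of b M hM)
  refine ⟨TB b A, tB b A ≫ j, ?_, ?_, E, hE, ?_⟩
  · have h1 : Etale (Spec.map (CommRingCat.ofHom (algebraMap R A))) :=
      (HasRingHomProperty.Spec_iff (P := @Etale)).2 (RingHom.etale_algebraMap.2 hA1)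
    have h2 : (tB b A ≫ j).left = Spec.map (CommRingCat.ofHom (algebraMap R A)) ≫ hV.fromSpec := rfl
    rw [h2]
    infer_instance
  · obtain ⟨y, hy⟩ : τ ∈ Set.range hV.fromSpec := by
      rw [hV.range_fromSpec]
      exact hτ
    obtain ⟨z, hz⟩ := PrimeSpectrum.comap_surjective_of_faithfullyFlat (A := R) (B := A) y
    refine ⟨z, ?_⟩
    change hV.fromSpec ((Spec.map (CommRingCat.ofHom (algebraMap R A))) z) = τ
    rw [← hy]
    congr 1
  · rw [hdE, resF_resF]

/-- Over a strictly henselian base the 2-cocycles of `D_S(M)` are coboundaries. -/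
theorem exists_cob_strict (R : Type u) [CommRing R] [HenselianLocalRing R]
    [IsSepClosed (IsLocalRing.ResidueField R)] {S : Scheme.{u}} (b : Spec (CommRingCat.of R) ⟶ S) (M : Type)
    [AddCommGroup M] [Fintype M] (hM : K933.Comm.Good R (Multiplicative M))
    {F : Fam (Red.DS S M) (T0 b) 2} (hF : IsFam F) (hd : dF F = 0) :
    ∃ E : Fam (Red.DS S M) (T0 b) 1, IsFam E ∧ dF E = F := by
  classical
  obtain ⟨A, _, _, hA1, hA2, hA3, E, hE, hdE⟩ := exists_cob hF hd hM
  have h1 : Etale (Spec.map (CommRingCat.ofHom (algebraMap R A))) :=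
      (HasRingHomProperty.Spec_iff (P := @Etale)).2 (RingHom.etale_algebraMap.2 hA1)
  obtain ⟨z, hz⟩ := PrimeSpectrum.comap_surjective_of_faithfullyFlat (A := R) (B := A) (IsLocalRing.closedPoint R)
  obtain ⟨u, hu, -⟩ := Groth.Agent.S5062.forward R (Spec (CommRingCat.of A)) (Spec.map (CommRingCat.ofHom (algebraMap R A)))
    z hz
  let σ : T0 b ⟶ TB b A := Over.homMk u (by
    change u ≫ Spec.map (CommRingCat.ofHom (algebraMap R A)) ≫ b = b
    rw [← Category.assoc, hu, Category.id_comp])
  refine ⟨resF _ σ E, isFam_resF σ hE, ?_⟩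
  have h2 : σ ≫ tB b A = 𝟙 _ := by
    ext1
    exact hu
  rw [dF_resF, hdE, resF_resF, h2, resF_id]

end K933.HTwo
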