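import Groth.Agent.StCoh.K998.RD
import Mathlib.Algebra.Homology.DerivedCategory.Ext.ExactSequences
import Mathlib.Algebra.Homology.DerivedCategory.Ext.EnoughInjectives

/-!
# Low degree Leray sequence, split by a section
-/

set_option autoImplicit false
set_option linter.unusedSectionVars false

universe w v₁ u₁ v₂ u₂ u

open CategoryTheory CategoryTheory.Limits CategoryTheory.Abelian

namespace K933.Leray

/-- Two quotients by the same subgroup. -/
theorem nonempty_equiv {P M N : Type*} [AddCommGroup P] [AddCommGroup M] [AddCommGroup N] (f : P →+ M) (g : P →+ N)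
    (hf : Function.Surjective f) (hg : Function.Surjective g) (h : ∀ x, f x = 0 ↔ g x = 0) : Nonempty (M ≃+ N) := by
  have e : f.ker = g.ker := by
    ext x
    exact h x
  exact ⟨(QuotientAddGroup.quotientKerEquivOfSurjective f hf).symm.trans
    ((QuotientAddGroup.quotientAddEquivOfEq e).trans (QuotientAddGroup.quotientKerEquivOfSurjective g hg))⟩

section one

variable {ℬ : Type u₂} [Category.{v₂} ℬ] [Abelian ℬ] [HasExt.{w} ℬ]

theorem shift_bijective {E : ShortComplex ℬ} (hE : E.ShortExact) [Injective E.X₂] (A : ℬ) (n : ℕ) :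
    Function.Bijective (fun x : Ext.{w} A E.X₃ (n + 1) => (x.comp hE.extClass rfl : Ext.{w} A E.X₁ (n + 2))) := by
  constructor
  · intro x y hxy
    have h0 : (x - y).comp hE.extClass rfl = (0 : Ext.{w} A E.X₁ (n + 2)) := by
      rw [sub_eq_add_neg, Ext.add_comp, Ext.neg_comp, ← sub_eq_add_neg, sub_eq_zero]
      exact hxy
    obtain ⟨z, hz⟩ := Ext.covariant_sequence_exact₃ A hE (x - y) rfl h0
    rw [← sub_eq_zero, ← hz, Ext.eq_zero_of_injective z, Ext.zero_comp]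
  · intro c
    obtain ⟨x, hx⟩ := Ext.covariant_sequence_exact₁ A hE c (Ext.eq_zero_of_injective _) rfl
    exact ⟨x, hx⟩

/-- Shift. -/
theorem nonempty_shift {E : ShortComplex ℬ} (hE : E.ShortExact) [Injective E.X₂] (A : ℬ) (n : ℕ) :
    Nonempty (Ext.{w} A E.X₃ (n + 1) ≃+ Ext.{w} A E.X₁ (n + 2)) :=
  ⟨AddEquiv.ofBijective (hE.extClass.postcomp A rfl) (shift_bijective hE A n)⟩

theorem comp_mk₀_bijective {Y Y' : ℬ} (f : Y ⟶ Y') [IsIso f] (A : ℬ) (n : ℕ) :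
    Function.Bijective (fun x : Ext.{w} A Y n => (x.comp (Ext.mk₀ f) (add_zero n) : Ext.{w} A Y' n)) := by
  rw [Function.bijective_iff_has_inverse]
  refine ⟨fun x => x.comp (Ext.mk₀ (inv f)) (add_zero n), fun x => ?_, fun x => ?_⟩
  · change (x.comp (Ext.mk₀ f) (add_zero n)).comp (Ext.mk₀ (inv f)) (add_zero n) = x
    rw [Ext.comp_assoc_of_third_deg_zero, Ext.mk₀_comp_mk₀, IsIso.hom_inv_id, Ext.comp_mk₀_id]
  · change (x.comp (Ext.mk₀ (inv f)) (add_zero n)).comp (Ext.mk₀ f) (add_zero n) = x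
    rw [Ext.comp_assoc_of_third_deg_zero, Ext.mk₀_comp_mk₀, IsIso.inv_hom_id, Ext.comp_mk₀_id]

variable {Y I B Q R Y' I' V : ℬ} {a : Y ⟶ I} {b : I ⟶ B} {wab : a ≫ b = 0} (h₁ : (ShortComplex.mk a b wab).ShortExact)
  {c : B ⟶ Q} {d : Q ⟶ R} {wcd : c ≫ d = 0} (h₂ : (ShortComplex.mk c d wcd).ShortExact)
  {a' : Y' ⟶ I'} {b' : I' ⟶ V} {wab' : a' ≫ b' = 0} (h₃ : (ShortComplex.mk a' b' wab').ShortExact)
  (φ₁ : Y ⟶ Y') (φ₂ : I ⟶ I') (ρ : Q ⟶ V) (e₁ : a ≫ φ₂ = φ₁ ≫ a') (e₂ : b ≫ c ≫ ρ = φ₂ ≫ b')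

include h₁ h₂ h₃ e₁ e₂ in
theorem retr_eq (A : ℬ) (n : ℕ) (x : Ext.{w} A B n) :
    ((x.comp (Ext.mk₀ c) (add_zero n)).comp (Ext.mk₀ ρ) (add_zero n)).comp h₃.extClass rfl =
      (x.comp h₁.extClass rfl).comp (Ext.mk₀ φ₁) (add_zero (n + 1)) := by
  let φ : ShortComplex.mk a b wab ⟶ ShortComplex.mk a' b' wab' :=
    { τ₁ := φ₁
      τ₂ := φ₂
      τ₃ := c ≫ ρ
      comm₁₂ := e₁.symm
      comm₂₃ := e₂.symm }
  have h := ShortComplex.ShortExact.extClass_naturality h₁ h₃ φ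
  rw [Ext.comp_assoc_of_third_deg_zero, Ext.mk₀_comp_mk₀, Ext.comp_assoc_of_third_deg_zero]
  have h' : x.comp (h₁.extClass.comp (Ext.mk₀ φ₁) (add_zero 1)) rfl =
      x.comp ((Ext.mk₀ (c ≫ ρ)).comp h₃.extClass (zero_add 1)) rfl := congrArg (fun z => x.comp z rfl) h
  rw [h', Ext.comp_assoc_of_second_deg_zero]

include h₁ h₂ h₃ e₁ e₂ in
theorem i_injective [Injective I] [IsIso φ₁] (A : ℬ) (n : ℕ) (x : Ext.{w} A B (n + 1))
    (hx : x.comp (Ext.mk₀ c) (add_zero (n + 1)) = 0) : x = 0 := by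
  have h := retr_eq h₁ h₂ h₃ φ₁ φ₂ ρ e₁ e₂ A (n + 1) x
  rw [hx, Ext.zero_comp, Ext.zero_comp] at h
  have h4 : (x.comp h₁.extClass rfl : Ext.{w} A Y (n + 2)) = 0 := (comp_mk₀_bijective φ₁ A (n + 2)).1 (by
    change (x.comp h₁.extClass rfl).comp (Ext.mk₀ φ₁) (add_zero (n + 2)) = (0 : Ext.{w} A Y (n + 2)).comp _ _
    rw [Ext.zero_comp]
    exact h.symm)
  have : Injective (ShortComplex.mk a b wab).X₂ := ‹Injective I›
  apply (shift_bijective h₁ A n).1
  change x.comp h₁.extClass rfl = (0 : Ext.{w} A B (n + 1)).comp h₁.extClass rfl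
  rw [Ext.zero_comp]
  exact h4

include h₁ h₂ h₃ e₁ e₂ in
/-- The splitting. -/
theorem split [Injective I] [IsIso φ₁] (A : ℬ) (n : ℕ) :
    Nonempty (Ext.{w} A Q (n + 1) ≃+ Ext.{w} A Y' (n + 2) × Ext.{w} A R (n + 1)) := by
  have hI : Injective (ShortComplex.mk a b wab).X₂ := ‹Injective I›
  let r : Ext.{w} A Q (n + 1) →+ Ext.{w} A Y' (n + 2) :=
    (h₃.extClass.postcomp A rfl).comp ((Ext.mk₀ ρ).postcomp A (add_zero (n + 1)))
  let q : Ext.{w} A Q (n + 1) →+ Ext.{w} A R (n + 1) := (Ext.mk₀ d).postcomp A (add_zero (n + 1))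
  have hr : ∀ x, r x = (x.comp (Ext.mk₀ ρ) (add_zero (n + 1))).comp h₃.extClass rfl := fun _ => rfl
  have hq : ∀ x, q x = x.comp (Ext.mk₀ d) (add_zero (n + 1)) := fun _ => rfl
  have hri : Function.Bijective (fun x : Ext.{w} A B (n + 1) => r (x.comp (Ext.mk₀ c) (add_zero (n + 1)))) := by
    have e : (fun x : Ext.{w} A B (n + 1) => r (x.comp (Ext.mk₀ c) (add_zero (n + 1)))) =
        (fun x : Ext.{w} A Y (n + 2) => (x.comp (Ext.mk₀ φ₁) (add_zero (n + 2)) : Ext.{w} A Y' (n + 2))) ∘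
        (fun x : Ext.{w} A B (n + 1) => (x.comp h₁.extClass rfl : Ext.{w} A Y (n + 2))) := by
      funext x
      exact retr_eq h₁ h₂ h₃ φ₁ φ₂ ρ e₁ e₂ A (n + 1) x
    rw [e]
    exact (comp_mk₀_bijective φ₁ A (n + 2)).comp (shift_bijective h₁ A n)
  have hqi : ∀ x : Ext.{w} A B (n + 1), q (x.comp (Ext.mk₀ c) (add_zero (n + 1))) = 0 := by
    intro x
    rw [hq, Ext.comp_assoc_of_third_deg_zero, Ext.mk₀_comp_mk₀, wcd, Ext.mk₀_zero, Ext.comp_zero]
  refine ⟨AddEquiv.ofBijective (r.prod q) ⟨?_, ?_⟩⟩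
  · rw [injective_iff_map_eq_zero]
    intro x hx
    have hx1 : r x = 0 := congrArg Prod.fst hx
    have hx2 : q x = 0 := congrArg Prod.snd hx
    obtain ⟨y, hy⟩ := Ext.covariant_sequence_exact₂ A h₂ x hx2
    have hy' : y.comp (Ext.mk₀ c) (add_zero (n + 1)) = x := hy
    have h0 : y = 0 := hri.1 (by
      change r (y.comp (Ext.mk₀ c) (add_zero (n + 1))) = r ((0 : Ext.{w} A B (n + 1)).comp (Ext.mk₀ c) (add_zero (n + 1)))
      rw [hy', hx1, Ext.zero_comp, map_zero])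
    rw [← hy', h0, Ext.zero_comp]
  · rintro ⟨y, z⟩
    have h5 : z.comp h₂.extClass rfl = (0 : Ext.{w} A B (n + 2)) := by
      apply i_injective h₁ h₂ h₃ φ₁ φ₂ ρ e₁ e₂ A (n + 1)
      have h6 := h₂.extClass_comp
      dsimp only at h6
      rw [Ext.comp_assoc_of_third_deg_zero, h6, Ext.comp_zero]
    obtain ⟨x, hx⟩ := Ext.covariant_sequence_exact₃ A h₂ z rfl h5
    have hx' : q x = z := hx
    obtain ⟨t, ht⟩ := hri.2 (y - r x)
    have ht' : r (t.comp (Ext.mk₀ c) (add_zero (n + 1))) = y - r x := ht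
    refine ⟨x + t.comp (Ext.mk₀ c) (add_zero (n + 1)), Prod.ext ?_ ?_⟩
    · change r (x + t.comp (Ext.mk₀ c) (add_zero (n + 1))) = y
      rw [map_add, ht']
      abel
    · change q (x + t.comp (Ext.mk₀ c) (add_zero (n + 1))) = z
      rw [map_add, hqi, add_zero, hx']

end one

section two

variable {𝒜 : Type u₁} [Category.{v₁} 𝒜] [Abelian 𝒜] [HasExt.{w} 𝒜]
  {ℬ : Type u₂} [Category.{v₂} ℬ] [Abelian ℬ] [HasExt.{w} ℬ] (T : 𝒜 ⥤ ℬ) [T.Additive]
  {A : 𝒜} {A' : ℬ} (α : ∀ X : 𝒜, (A ⟶ X) ≃+ (A' ⟶ T.obj X))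
  (hα : ∀ {X X' : 𝒜} (g : A ⟶ X) (f : X ⟶ X'), α X' (g ≫ f) = α X g ≫ T.map f)

/-- the connecting map in degree zero -/
noncomputable def δ₀ {ℬ : Type u₂} [Category.{v₂} ℬ] [Abelian ℬ] [HasExt.{w} ℬ] {E : ShortComplex ℬ} (hE : E.ShortExact)
    (A : ℬ) : (A ⟶ E.X₃) →+ Ext.{w} A E.X₁ 1 :=
  (hE.extClass.postcomp A (zero_add 1)).comp (Ext.addEquiv₀ (X := A) (Y := E.X₃)).symm.toAddMonoidHom

theorem δ₀_surjective {ℬ : Type u₂} [Category.{v₂} ℬ] [Abelian ℬ] [HasExt.{w} ℬ] {E : ShortComplex ℬ}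
    (hE : E.ShortExact) [Injective E.X₂] (A : ℬ) : Function.Surjective (δ₀.{w} hE A) := by
  intro c
  obtain ⟨x, hx⟩ := Ext.covariant_sequence_exact₁ A hE c (Ext.eq_zero_of_injective _) (zero_add 1)
  obtain ⟨s, rfl⟩ := (Ext.mk₀_bijective A E.X₃).2 x
  exact ⟨s, hx⟩

theorem δ₀_eq_zero_iff {ℬ : Type u₂} [Category.{v₂} ℬ] [Abelian ℬ] [HasExt.{w} ℬ] {E : ShortComplex ℬ}
    (hE : E.ShortExact) (A : ℬ) (s : A ⟶ E.X₃) : δ₀.{w} hE A s = 0 ↔ ∃ t : A ⟶ E.X₂, t ≫ E.g = s := by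
  constructor
  · intro h0
    obtain ⟨y, hy⟩ := Ext.covariant_sequence_exact₃ A hE (Ext.mk₀ s) (zero_add 1) h0
    obtain ⟨φ, rfl⟩ := (Ext.mk₀_bijective A E.X₂).2 y
    rw [Ext.mk₀_comp_mk₀] at hy
    exact ⟨φ, (Ext.mk₀_bijective A E.X₃).1 hy⟩
  · rintro ⟨t, rfl⟩
    change (Ext.mk₀ (t ≫ E.g)).comp hE.extClass (zero_add 1) = 0
    rw [← Ext.mk₀_comp_mk₀, Ext.comp_assoc_of_second_deg_zero, hE.comp_extClass, Ext.comp_zero]

include hα in
/-- Comparison in degree one. -/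
theorem one {E : ShortComplex 𝒜} (hE : E.ShortExact) [Injective E.X₂] (hT : (E.map T).ShortExact)
    [Injective (T.obj E.X₂)] : Nonempty (Ext.{w} A E.X₁ 1 ≃+ Ext.{w} A' (T.obj E.X₁) 1) := by
  have hI : Injective (E.map T).X₂ := ‹Injective (T.obj E.X₂)›
  refine nonempty_equiv (δ₀.{w} hE A) ((δ₀.{w} hT A').comp (α E.X₃).toAddMonoidHom) (δ₀_surjective hE A)
    ((δ₀_surjective hT A').comp (α E.X₃).surjective) fun x => ?_
  rw [δ₀_eq_zero_iff]
  refine Iff.trans ?_ (δ₀_eq_zero_iff hT A' (α E.X₃ x)).symm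
  constructor
  · rintro ⟨t, rfl⟩
    exact ⟨α _ t, (hα t E.g).symm⟩
  · rintro ⟨t, ht⟩
    refine ⟨(α _).symm t, (α _).injective ?_⟩
    rw [hα, AddEquiv.apply_symm_apply]
    exact ht

variable [PreservesFiniteLimits T] [EnoughInjectives 𝒜] [HasInjectiveResolutions 𝒜]

/-- `T` maps a short exact sequence to a short exact one if it keeps the epimorphism -/
theorem shortExact_map {E : ShortComplex 𝒜} (hE : E.ShortExact) (h : Epi (T.map E.g)) : (E.map T).ShortExact := by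
  have := hE.mono_f
  exact { exact := hE.exact.map_of_mono_of_preservesKernel T inferInstance inferInstance
          mono_f := inferInstanceAs (Mono (T.map E.f))
          epi_g := h }

omit [HasExt.{w} 𝒜] [HasInjectiveResolutions 𝒜] in
theorem exists_ses (X : 𝒜) : ∃ (I Q : 𝒜) (a : X ⟶ I) (b : I ⟶ Q) (w : a ≫ b = 0), (ShortComplex.mk a b w).ShortExact ∧
    Injective I := by
  refine ⟨Injective.under X, _, Injective.ι X, cokernel.π (Injective.ι X), cokernel.condition _, ?_, inferInstance⟩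
  exact { exact := ShortComplex.exact_cokernel _
          mono_f := inferInstanceAs (Mono (Injective.ι X))
          epi_g := inferInstanceAs (Epi (cokernel.π _)) }

/-- transport of `Ext` along an isomorphism. -/
noncomputable def extIso {Y Y' : ℬ} (e : Y ≅ Y') (A : ℬ) (n : ℕ) : Ext.{w} A Y n ≃+ Ext.{w} A Y' n :=
  AddEquiv.ofBijective ((Ext.mk₀ e.hom).postcomp A (add_zero n)) (comp_mk₀_bijective e.hom A n)

include hα in
/-- The splitting of the second cohomology. -/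
theorem main (hInj : ∀ I : 𝒜, Injective I → Injective (T.obj I)) (s : 𝒜 ⥤ ℬ) [s.Additive] [PreservesFiniteLimits s]
    [PreservesFiniteColimits s] (η : T ⟶ s) (X : 𝒜) [IsIso (η.app X)] (h2 : IsZero ((T.rightDerived 2).obj X)) :
    Nonempty (Ext.{w} A X 2 ≃+ Ext.{w} A' (T.obj X) 2 × Ext.{w} A' ((T.rightDerived 1).obj X) 1) := by
  obtain ⟨I, Q, a, b, wab, hE, hI⟩ := exists_ses X
  obtain ⟨J, Q', a', b', wab', hF, hJ⟩ := exists_ses Q
  have hI' : Injective (ShortComplex.mk a b wab).X₂ := hI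
  have hJ' : Injective (ShortComplex.mk a' b' wab').X₂ := hJ
  have hTI : Injective (T.obj I) := hInj I hI
  have hTJ : Injective (T.obj (ShortComplex.mk a' b' wab').X₂) := hInj J hJ
  obtain ⟨e⟩ := K998.RD.nonempty_succ T hE 0
  have h1 : IsZero ((T.rightDerived 1).obj Q) := h2.of_iso e
  have hepi' : Epi (T.map b') := by
    obtain ⟨δ', wδ', hex', _⟩ := K998.RD.exists_one T hF
    exact (ShortComplex.exact_iff_epi _ (h1.eq_of_tgt δ' 0)).1 hex'
  obtain ⟨e1⟩ := one T α hα hF (shortExact_map T hF hepi')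
  obtain ⟨e2⟩ := nonempty_shift.{w} hE A 0
  obtain ⟨δ, wδ, hex, hepi⟩ := K998.RD.exists_one T hE
  have hmono : Mono (T.map a) := by
    have := hE.mono_f
    exact inferInstanceAs (Mono (T.map (ShortComplex.mk a b wab).f))
  have h₂ : (ShortComplex.mk (kernel.ι δ) δ (kernel.condition δ)).ShortExact :=
    { exact := ShortComplex.exact_kernel δ
      mono_f := inferInstanceAs (Mono (kernel.ι δ))
      epi_g := hepi }
  have hb0 : kernel.lift δ (T.map b) wδ ≫ kernel.ι δ = T.map b := kernel.lift_ι _ _ _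
  have w₁ : T.map a ≫ kernel.lift δ (T.map b) wδ = 0 := by
    rw [← cancel_mono (kernel.ι δ), Category.assoc, hb0, ← T.map_comp, wab, T.map_zero, zero_comp]
  have h₁ : (ShortComplex.mk (T.map a) (kernel.lift δ (T.map b) wδ) w₁).ShortExact := by
    have hex1 : (ShortComplex.mk (T.map a) (T.map b) (by rw [← T.map_comp, wab, T.map_zero])).Exact := by
      have := hE.mono_f
      exact hE.exact.map_of_mono_of_preservesKernel T inferInstance inferInstance
    have hepi0 : Epi (kernel.lift δ (T.map b) wδ) := (ShortComplex.exact_iff_epi_kernel_lift _).1 hex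
    let ψ : ShortComplex.mk (T.map a) (kernel.lift δ (T.map b) wδ) w₁ ⟶
        ShortComplex.mk (T.map a) (T.map b) (by rw [← T.map_comp, wab, T.map_zero]) :=
      { τ₁ := 𝟙 _
        τ₂ := 𝟙 _
        τ₃ := kernel.ι δ
        comm₁₂ := by
          change 𝟙 _ ≫ T.map a = T.map a ≫ 𝟙 _
          rw [Category.id_comp, Category.comp_id]
        comm₂₃ := by
          change 𝟙 _ ≫ T.map b = kernel.lift δ (T.map b) wδ ≫ kernel.ι δ
          rw [Category.id_comp, hb0] }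
    have i1 : Epi ψ.τ₁ := inferInstanceAs (Epi (𝟙 _))
    have i2 : IsIso ψ.τ₂ := inferInstanceAs (IsIso (𝟙 _))
    have i3 : Mono ψ.τ₃ := inferInstanceAs (Mono (kernel.ι δ))
    exact { exact := (ShortComplex.exact_iff_of_epi_of_isIso_of_mono ψ).2 hex1
            mono_f := hmono
            epi_g := hepi0 }
  have h₃ : (ShortComplex.mk (s.map a) (s.map b) (by rw [← s.map_comp, wab, s.map_zero])).ShortExact :=
    hE.map_of_exact s
  have e₂ : kernel.lift δ (T.map b) wδ ≫ kernel.ι δ ≫ η.app Q = η.app I ≫ s.map b := by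
    rw [← Category.assoc, hb0, η.naturality]
  obtain ⟨e3⟩ := split h₁ h₂ h₃ (η.app X) (η.app I) (η.app Q) (η.naturality a) e₂ A' 0
  exact ⟨(e2.symm.trans e1).trans (e3.trans ((extIso (asIso (η.app X)).symm A' 2).prodCongr (AddEquiv.refl _)))⟩

end two

end K933.Leray
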