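import Mathlib
import Groth.Agent.S2195

/-!
# Symmetric 2-cocycles of diagonalisable groups: the twisted algebra

`N` a finite commutative group, `z : N → N → R` the coefficients of a function on `D(N) × D(N)`.  `Tw z` is `N → R` with the
multiplication `(f g)(x) = ∑ z(m,n) f(mx) g(nx)`; for a symmetric invertible 2-cocycle it is an étale algebra, over which `z`
becomes a coboundary.
-/

set_option autoImplicit false
set_option linter.unusedSectionVars false

universe u

namespace K933.TwAlg

open Finset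

variable {R : Type u} [CommRing R] {N : Type} [CommGroup N] [Fintype N] [DecidableEq N]

section ev

variable {B : Type u} [CommRing B] [Algebra R B]

/-- evaluation of a function on `D(N)` -/
def ev (y : N → R) (g : N →* B) : B := ∑ a, algebraMap R B (y a) * g a

/-- evaluation of a function on `D(N) × D(N)` -/
def ev2 (z : N → N → R) (g h : N →* B) : B := ∑ a, ∑ b, algebraMap R B (z a b) * (g a * h b)

end ev

/-- The 2-cocycle condition. -/
def IsCoc (z : N → N → R) : Prop :=
  ∀ (B : Type u) [CommRing B] [Algebra R B] (g h k : N →* B),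
    ev2 z h k * ev2 z g (h * k) = ev2 z (g * h) k * ev2 z g h

/-- coefficients of a finite sum of monomials -/
theorem coeff_sum {K ι : Type} [Monoid K] [DecidableEq K] [Fintype ι] (y : ι → R) (p : ι → K) (k : K) :
    (∑ i, algebraMap R (MonoidAlgebra R K) (y i) * MonoidAlgebra.of R K (p i)).coeff k = ∑ i, if p i = k then y i else 0 := by
  classical
  rw [MonoidAlgebra.coeff_sum, Finsupp.finsetSum_apply]
  refine Finset.sum_congr rfl fun i _ => ?_
  rw [MonoidAlgebra.of_apply, ← Algebra.smul_def, MonoidAlgebra.smul_single, smul_eq_mul, mul_one,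
    MonoidAlgebra.coeff_single, Finsupp.single_apply]

/-- universal points -/
noncomputable def g1 (R : Type u) [CommRing R] (N : Type) [CommGroup N] : N →* MonoidAlgebra R (N × N × N) :=
  (MonoidAlgebra.of R (N × N × N)).comp ⟨⟨fun a => (a, 1, 1), rfl⟩, fun a b => by simp⟩
/-- universal points -/
noncomputable def g2 (R : Type u) [CommRing R] (N : Type) [CommGroup N] : N →* MonoidAlgebra R (N × N × N) :=
  (MonoidAlgebra.of R (N × N × N)).comp ⟨⟨fun a => (1, a, 1), rfl⟩, fun a b => by simp⟩
/-- universal points -/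
noncomputable def g3 (R : Type u) [CommRing R] (N : Type) [CommGroup N] : N →* MonoidAlgebra R (N × N × N) :=
  (MonoidAlgebra.of R (N × N × N)).comp ⟨⟨fun a => (1, 1, a), rfl⟩, fun a b => by simp⟩

theorem g_mul (a b c : N) : g1 R N a * (g2 R N b * g3 R N c) = MonoidAlgebra.of R (N × N × N) (a, b, c) := by
  simp only [g1, g2, g3, MonoidHom.comp_apply, ← map_mul]
  congr 1
  simp

theorem inj3 {y y' : N → N → N → R}
    (h : ∑ a, ∑ b, ∑ c, algebraMap R (MonoidAlgebra R (N × N × N)) (y a b c) * (g1 R N a * (g2 R N b * g3 R N c)) =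
      ∑ a, ∑ b, ∑ c, algebraMap R (MonoidAlgebra R (N × N × N)) (y' a b c) * (g1 R N a * (g2 R N b * g3 R N c))) :
    y = y' := by
  have key : ∀ y : N → N → N → R, ∑ a, ∑ b, ∑ c,
      algebraMap R (MonoidAlgebra R (N × N × N)) (y a b c) * (g1 R N a * (g2 R N b * g3 R N c)) =
      ∑ i : N × N × N, algebraMap R (MonoidAlgebra R (N × N × N)) (y i.1 i.2.1 i.2.2) *
        MonoidAlgebra.of R (N × N × N) i := by
    intro y
    rw [Fintype.sum_prod_type]
    refine Finset.sum_congr rfl fun a _ => ?_
    rw [Fintype.sum_prod_type]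
    refine Finset.sum_congr rfl fun b _ => Finset.sum_congr rfl fun c _ => ?_
    rw [g_mul]
  rw [key, key] at h
  funext a b c
  have h2 := congrArg (fun w => w.coeff (a, b, c)) h
  simp only [coeff_sum] at h2
  simpa using h2

theorem shift {B : Type*} [AddCommMonoid B] (m : N) (f : N → B) : ∑ b, f (b * m) = ∑ b, f b :=
  Equiv.sum_comp (Equiv.mulRight m) f

theorem expand_left {B : Type u} [CommRing B] [Algebra R B] (z : N → N → R) (g h k : N →* B) :
    ev2 z h k * ev2 z g (h * k) =
      ∑ a, ∑ b, ∑ c, algebraMap R B (∑ m, z (b / m) (c / m) * z a m) * (g a * (h b * k c)) := by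
  have e1 : ∀ a : N, ∑ b, ∑ c, algebraMap R B (∑ m, z (b / m) (c / m) * z a m) * (g a * (h b * k c)) =
      ∑ m, ∑ b, ∑ c, algebraMap R B (z b c) * algebraMap R B (z a m) * (g a * (h (b * m) * k (c * m))) := by
    intro a
    have e2 : ∀ m : N, ∑ b, ∑ c, algebraMap R B (z b c) * algebraMap R B (z a m) * (g a * (h (b * m) * k (c * m))) =
        ∑ b, ∑ c, algebraMap R B (z (b / m) (c / m)) * algebraMap R B (z a m) * (g a * (h b * k c)) := by
      intro m
      rw [← shift m (fun b => ∑ c, algebraMap R B (z (b / m) (c / m)) * algebraMap R B (z a m) * (g a * (h b * k c)))]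
      refine Finset.sum_congr rfl fun b _ => ?_
      rw [← shift m (fun c => algebraMap R B (z (b * m / m) (c / m)) * algebraMap R B (z a m) * (g a * (h (b * m) * k c)))]
      refine Finset.sum_congr rfl fun c _ => ?_
      rw [mul_div_cancel_right, mul_div_cancel_right]
    rw [Finset.sum_congr rfl fun m _ => e2 m]
    refine Eq.trans ?_ Finset.sum_comm
    refine Finset.sum_congr rfl fun b _ => ?_
    refine Eq.trans ?_ Finset.sum_comm
    refine Finset.sum_congr rfl fun c _ => ?_
    rw [map_sum, Finset.sum_mul]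
    exact Finset.sum_congr rfl fun m _ => by rw [map_mul]
  rw [Finset.sum_congr rfl fun a _ => e1 a]
  unfold ev2
  rw [Finset.mul_sum]
  refine Finset.sum_congr rfl fun a _ => ?_
  rw [Finset.mul_sum]
  refine Finset.sum_congr rfl fun m _ => ?_
  rw [Finset.sum_mul]
  refine Finset.sum_congr rfl fun b _ => ?_
  rw [Finset.sum_mul]
  refine Finset.sum_congr rfl fun c _ => ?_
  rw [MonoidHom.mul_apply, map_mul, map_mul]
  ring

theorem expand_right {B : Type u} [CommRing B] [Algebra R B] (z : N → N → R) (g h k : N →* B) :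
    ev2 z (g * h) k * ev2 z g h =
      ∑ a, ∑ b, ∑ c, algebraMap R B (∑ m, z m c * z (a / m) (b / m)) * (g a * (h b * k c)) := by
  have e1 : ∑ a, ∑ b, ∑ c, algebraMap R B (∑ m, z m c * z (a / m) (b / m)) * (g a * (h b * k c)) =
      ∑ m, ∑ c, ∑ a, ∑ b, algebraMap R B (z m c) * algebraMap R B (z a b) * (g (a * m) * (h (b * m) * k c)) := by
    have e2 : ∀ m c : N, ∑ a, ∑ b, algebraMap R B (z m c) * algebraMap R B (z a b) * (g (a * m) * (h (b * m) * k c)) =
        ∑ a, ∑ b, algebraMap R B (z m c) * algebraMap R B (z (a / m) (b / m)) * (g a * (h b * k c)) := by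
      intro m c
      rw [← shift m (fun a => ∑ b, algebraMap R B (z m c) * algebraMap R B (z (a / m) (b / m)) * (g a * (h b * k c)))]
      refine Finset.sum_congr rfl fun a _ => ?_
      rw [← shift m (fun b => algebraMap R B (z m c) * algebraMap R B (z (a * m / m) (b / m)) * (g (a * m) * (h b * k c)))]
      refine Finset.sum_congr rfl fun b _ => ?_
      rw [mul_div_cancel_right, mul_div_cancel_right]
    rw [Finset.sum_congr rfl fun m _ => Finset.sum_congr rfl fun c _ => e2 m c]
    have e3 : ∀ m : N, ∑ c, ∑ a, ∑ b, algebraMap R B (z m c) * algebraMap R B (z (a / m) (b / m)) * (g a * (h b * k c)) =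
        ∑ a, ∑ b, ∑ c, algebraMap R B (z m c) * algebraMap R B (z (a / m) (b / m)) * (g a * (h b * k c)) := by
      intro m
      refine Finset.sum_comm.trans ?_
      exact Finset.sum_congr rfl fun a _ => Finset.sum_comm
    rw [Finset.sum_congr rfl fun m _ => e3 m]
    refine Eq.trans ?_ Finset.sum_comm
    refine Finset.sum_congr rfl fun a _ => ?_
    refine Eq.trans ?_ Finset.sum_comm
    refine Finset.sum_congr rfl fun b _ => ?_
    refine Eq.trans ?_ Finset.sum_comm
    refine Finset.sum_congr rfl fun c _ => ?_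
    rw [map_sum, Finset.sum_mul]
    exact Finset.sum_congr rfl fun m _ => by rw [map_mul]
  rw [e1]
  unfold ev2
  rw [Finset.sum_mul]
  refine Finset.sum_congr rfl fun m _ => ?_
  rw [Finset.sum_mul]
  refine Finset.sum_congr rfl fun c _ => ?_
  rw [Finset.mul_sum]
  refine Finset.sum_congr rfl fun a _ => ?_
  rw [Finset.mul_sum]
  refine Finset.sum_congr rfl fun b _ => ?_
  rw [MonoidHom.mul_apply, map_mul, map_mul]
  ring

/-- The cocycle identity on coefficients. -/
theorem coc_coeff {z : N → N → R} (hz : IsCoc z) (a b c : N) :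
    ∑ m, z (b / m) (c / m) * z a m = ∑ m, z m c * z (a / m) (b / m) := by
  have h := hz (MonoidAlgebra R (N × N × N)) (g1 R N) (g2 R N) (g3 R N)
  rw [expand_left, expand_right] at h
  exact congrFun (congrFun (congrFun (inj3 h) a) b) c

theorem ev2_one_right' {B : Type u} [CommRing B] [Algebra R B] (z : N → N → R) (k : N →* B) :
    ev2 z (1 : N →* B) k = ∑ b, algebraMap R B (∑ a, z a b) * k b := by
  unfold ev2
  rw [Finset.sum_comm]
  refine Finset.sum_congr rfl fun b _ => ?_
  rw [map_sum, Finset.sum_mul]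
  exact Finset.sum_congr rfl fun a _ => by rw [MonoidHom.one_apply, one_mul]

theorem ev2_one_one {B : Type u} [CommRing B] [Algebra R B] (z : N → N → R) :
    ev2 z (1 : N →* B) 1 = algebraMap R B (∑ a, ∑ b, z a b) := by
  unfold ev2
  simp only [map_sum, MonoidHom.one_apply, mul_one]

theorem coeff_algebraMap (r : R) (n : N) :
    (algebraMap R (MonoidAlgebra R N) r).coeff n = if 1 = n then r else 0 := by
  rw [Algebra.algebraMap_eq_smul_one, MonoidAlgebra.one_def, MonoidAlgebra.smul_single, smul_eq_mul, mul_one,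
    MonoidAlgebra.coeff_single, Finsupp.single_apply]

/-- The value at the unit. -/
theorem coeff_one {z z' : N → N → R} (hz : IsCoc z)
    (hi : ∀ (B : Type u) [CommRing B] [Algebra R B] (g h : N →* B), ev2 z g h * ev2 z' g h = 1) (n : N) :
    ∑ m, z m n = if 1 = n then ∑ a, ∑ b, z a b else 0 := by
  have h := hz (MonoidAlgebra R N) 1 1 (MonoidAlgebra.of R N)
  rw [one_mul, one_mul] at h
  have h1 := hi (MonoidAlgebra R N) 1 (MonoidAlgebra.of R N)
  have h2 : ev2 z 1 (MonoidAlgebra.of R N) = ev2 z (1 : N →* MonoidAlgebra R N) 1 := by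
    calc _ = ev2 z 1 (MonoidAlgebra.of R N) * ev2 z 1 (MonoidAlgebra.of R N) * ev2 z' 1 (MonoidAlgebra.of R N) := by
            rw [mul_assoc, h1, mul_one]
      _ = _ := by
            rw [h, mul_comm (ev2 z 1 (MonoidAlgebra.of R N)), mul_assoc, h1, mul_one]
  rw [ev2_one_right', ev2_one_one] at h2
  have h3 := congrArg (fun w => w.coeff n) h2
  simp only [coeff_sum, coeff_algebraMap] at h3
  simpa using h3

/-- Data: a symmetric normalisable 2-cocycle. -/
structure Dat (R : Type u) [CommRing R] (N : Type) [CommGroup N] [Fintype N] [DecidableEq N] where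
  /-- the cocycle -/
  z : N → N → R
  coc : IsCoc z
  symm : ∀ a b, z a b = z b a
  /-- value at 1 -/
  u : R
  /-- its inverse -/
  v : R
  huv : u * v = 1
  one : ∀ n, ∑ m, z m n = if 1 = n then u else 0

/-- The twisted algebra. -/
def Tw (_ : Dat R N) : Type u := N → R

variable (d : Dat R N)

namespace Tw

instance : AddCommGroup (Tw d) := inferInstanceAs (AddCommGroup (N → R))
instance : Module R (Tw d) := inferInstanceAs (Module R (N → R))
instance : Mul (Tw d) := ⟨fun f g x => ∑ m, ∑ n, d.z m n * (f (m * x) * g (n * x))⟩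
instance : One (Tw d) := ⟨fun _ => d.v⟩

theorem mul_apply (f g : Tw d) (x : N) : (f * g) x = ∑ m, ∑ n, d.z m n * (f (m * x) * g (n * x)) := rfl
theorem one_apply (x : N) : (1 : Tw d) x = d.v := rfl
theorem add_apply (f g : Tw d) (x : N) : (f + g) x = f x + g x := rfl
theorem smul_apply (r : R) (f : Tw d) (x : N) : (r • f) x = r * f x := rfl
theorem zero_apply (x : N) : (0 : Tw d) x = 0 := rfl

@[ext] theorem ext' {f g : Tw d} (h : ∀ x, f x = g x) : f = g := funext h

theorem mul_comm' (f g : Tw d) : f * g = g * f := by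
  ext x
  rw [mul_apply, mul_apply, Finset.sum_comm]
  refine Finset.sum_congr rfl fun m _ => Finset.sum_congr rfl fun n _ => ?_
  rw [d.symm n m, mul_comm (f _)]

theorem add_mul' (f g h : Tw d) : (f + g) * h = f * h + g * h := by
  ext x
  simp only [mul_apply, add_apply, add_mul, mul_add, Finset.sum_add_distrib]

theorem one_mul' (f : Tw d) : 1 * f = f := by
  ext x
  rw [mul_apply, Finset.sum_comm]
  have h : ∀ n : N, ∑ m, d.z m n * ((1 : Tw d) (m * x) * f (n * x)) = (if 1 = n then d.u else 0) * (d.v * f (n * x)) := by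
    intro n
    rw [← d.one, Finset.sum_mul]
    rfl
  rw [Finset.sum_congr rfl fun n _ => h n]
  simp only [ite_mul, zero_mul, Finset.sum_ite_eq, Finset.mem_univ, if_true, one_mul]
  rw [← mul_assoc, d.huv, one_mul]

theorem assoc' (f g h : Tw d) : f * g * h = f * (g * h) := by
  ext x
  have hl : (f * g * h) x = ∑ a, ∑ b, ∑ c, (∑ m, d.z m c * d.z (a / m) (b / m)) * (f (a * x) * (g (b * x) * h (c * x))) := by
    rw [mul_apply]
    have e1 : ∀ m c : N, d.z m c * ((f * g) (m * x) * h (c * x)) =
        ∑ a, ∑ b, d.z m c * d.z (a / m) (b / m) * (f (a * x) * (g (b * x) * h (c * x))) := by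
      intro m c
      rw [mul_apply, Finset.sum_mul, Finset.mul_sum,
        ← shift m (fun a => ∑ b, d.z m c * d.z (a / m) (b / m) * (f (a * x) * (g (b * x) * h (c * x))))]
      refine Finset.sum_congr rfl fun a _ => ?_
      rw [Finset.sum_mul, Finset.mul_sum,
        ← shift m (fun b => d.z m c * d.z (a * m / m) (b / m) * (f (a * m * x) * (g (b * x) * h (c * x))))]
      refine Finset.sum_congr rfl fun b _ => ?_
      rw [mul_div_cancel_right, mul_div_cancel_right, mul_assoc a, mul_assoc b]
      ring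
    rw [Finset.sum_congr rfl fun m _ => Finset.sum_congr rfl fun c _ => e1 m c]
    have e2 : ∀ m : N, ∑ c, ∑ a, ∑ b, d.z m c * d.z (a / m) (b / m) * (f (a * x) * (g (b * x) * h (c * x))) =
        ∑ a, ∑ b, ∑ c, d.z m c * d.z (a / m) (b / m) * (f (a * x) * (g (b * x) * h (c * x))) := by
      intro m
      refine Finset.sum_comm.trans ?_
      exact Finset.sum_congr rfl fun a _ => Finset.sum_comm
    rw [Finset.sum_congr rfl fun m _ => e2 m]
    refine Finset.sum_comm.trans ?_
    refine Finset.sum_congr rfl fun a _ => ?_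
    refine Finset.sum_comm.trans ?_
    refine Finset.sum_congr rfl fun b _ => ?_
    refine Finset.sum_comm.trans ?_
    refine Finset.sum_congr rfl fun c _ => ?_
    rw [Finset.sum_mul]
  have hr : (f * (g * h)) x = ∑ a, ∑ b, ∑ c, (∑ m, d.z (b / m) (c / m) * d.z a m) * (f (a * x) * (g (b * x) * h (c * x))) := by
    rw [mul_apply]
    refine Finset.sum_congr rfl fun a _ => ?_
    have e1 : ∀ m : N, d.z a m * (f (a * x) * (g * h) (m * x)) =
        ∑ b, ∑ c, d.z (b / m) (c / m) * d.z a m * (f (a * x) * (g (b * x) * h (c * x))) := by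
      intro m
      rw [mul_apply, Finset.mul_sum, Finset.mul_sum,
        ← shift m (fun b => ∑ c, d.z (b / m) (c / m) * d.z a m * (f (a * x) * (g (b * x) * h (c * x))))]
      refine Finset.sum_congr rfl fun b _ => ?_
      rw [Finset.mul_sum, Finset.mul_sum,
        ← shift m (fun c => d.z (b * m / m) (c / m) * d.z a m * (f (a * x) * (g (b * m * x) * h (c * x))))]
      refine Finset.sum_congr rfl fun c _ => ?_
      rw [mul_div_cancel_right, mul_div_cancel_right, mul_assoc b, mul_assoc c]
      ring
    rw [Finset.sum_congr rfl fun m _ => e1 m]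
    refine Finset.sum_comm.trans ?_
    refine Finset.sum_congr rfl fun b _ => ?_
    refine Finset.sum_comm.trans ?_
    refine Finset.sum_congr rfl fun c _ => ?_
    rw [Finset.sum_mul]
  rw [hl, hr]
  refine Finset.sum_congr rfl fun a _ => Finset.sum_congr rfl fun b _ => Finset.sum_congr rfl fun c _ => ?_
  rw [coc_coeff d.coc]

theorem mul_zero' (f : Tw d) : f * 0 = 0 := by
  ext x
  simp only [mul_apply, zero_apply, mul_zero, Finset.sum_const_zero]

noncomputable instance : CommRing (Tw d) where
  __ := (inferInstance : AddCommGroup (Tw d))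
  mul := (· * ·)
  one := 1
  left_distrib := fun f g h => by rw [mul_comm', add_mul', mul_comm' d g, mul_comm' d h]
  right_distrib := add_mul' d
  zero_mul := fun f => by rw [mul_comm', mul_zero']
  mul_zero := mul_zero' d
  mul_assoc := assoc' d
  one_mul := one_mul' d
  mul_one := fun f => by rw [mul_comm', one_mul']
  mul_comm := mul_comm' d

theorem smul_mul' (r : R) (f g : Tw d) : (r • f) * g = r • (f * g) := by
  ext x
  rw [mul_apply, smul_apply, mul_apply, Finset.mul_sum]
  refine Finset.sum_congr rfl fun m _ => ?_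
  rw [Finset.mul_sum]
  refine Finset.sum_congr rfl fun n _ => ?_
  rw [smul_apply]
  ring

noncomputable instance : Algebra R (Tw d) :=
  Algebra.ofModule (smul_mul' d) (fun r f g => by rw [mul_comm f, smul_mul', mul_comm g])

/-- The standard basis. -/
noncomputable def bas : Module.Basis N R (Tw d) := Pi.basisFun R N

theorem bas_apply (a x : N) : bas d a x = if x = a then 1 else 0 := by
  change (Pi.basisFun R N a : N → R) x = _
  rw [Pi.basisFun_apply, Pi.single_apply]

theorem repr_apply (f : Tw d) (x : N) : (bas d).repr f x = f x := rfl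

theorem bas_mul_bas (a b x : N) : (bas d a * bas d b) x = d.z (a / x) (b / x) := by
  rw [mul_apply]
  have h : ∀ m : N, ∑ n, d.z m n * (bas d a (m * x) * bas d b (n * x)) = if m = a / x then d.z m (b / x) else 0 := by
    intro m
    simp only [bas_apply, ← eq_div_iff_mul_eq']
    by_cases hm : m = a / x
    · simp [hm]
    · simp [hm]
  rw [Finset.sum_congr rfl fun m _ => h m]
  simp

theorem mul_bas (f : Tw d) (b x : N) : (f * bas d b) x = ∑ m, d.z m (b / x) * f (m * x) := by
  rw [mul_apply]
  refine Finset.sum_congr rfl fun m _ => ?_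
  simp only [bas_apply, ← eq_div_iff_mul_eq']
  simp

theorem trace_apply (f : Tw d) : Algebra.trace R (Tw d) f = d.u * ∑ b, f b := by
  rw [Algebra.trace_eq_matrix_trace (bas d), Matrix.trace]
  have h : ∀ b : N, (Algebra.leftMulMatrix (bas d) f).diag b = ∑ m, d.z m 1 * f (m * b) := by
    intro b
    rw [Matrix.diag_apply, Algebra.leftMulMatrix_eq_repr_mul, repr_apply, mul_bas, div_self']
  rw [Finset.sum_congr rfl fun b _ => h b, Finset.sum_comm]
  have h2 : ∀ m : N, ∑ b, d.z m 1 * f (m * b) = d.z m 1 * ∑ b, f b := by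
    intro m
    rw [← Finset.mul_sum]
    congr 1
    exact Equiv.sum_comp (Equiv.mulLeft m) f
  rw [Finset.sum_congr rfl fun m _ => h2 m, ← Finset.sum_mul, d.one, if_pos rfl]

end Tw

/-- The function `g ↦ z(g, g⁻¹)`. -/
noncomputable def wz (z : N → N → R) : MonoidAlgebra R N := ev2 z (MonoidAlgebra.of R N)
  ((MonoidAlgebra.of R N).comp (invMonoidHom (α := N)))

theorem wz_coeff (z : N → N → R) (a b : N) : (wz z).coeff (a / b) = ∑ x, z (a / x) (b / x) := by
  have h1 : wz z = ∑ i : N × N, algebraMap R (MonoidAlgebra R N) (z i.1 i.2) * MonoidAlgebra.of R N (i.1 / i.2) := by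
    rw [wz, ev2, Fintype.sum_prod_type]
    refine Finset.sum_congr rfl fun m _ => Finset.sum_congr rfl fun n _ => ?_
    rw [MonoidHom.comp_apply, ← map_mul, invMonoidHom_apply, div_eq_mul_inv]
  rw [h1, coeff_sum, Fintype.sum_prod_type]
  have h2 : ∀ m : N, ∑ n, (if m / n = a / b then z m n else 0) = z m (m / (a / b)) := by
    intro m
    rw [Finset.sum_eq_single (m / (a / b))]
    · rw [if_pos]
      rw [div_div_cancel]
    · intro n _ hn
      rw [if_neg]
      intro h
      apply hn
      rw [← h, div_div_cancel]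
    · intro h
      exact absurd (Finset.mem_univ _) h
  rw [Finset.sum_congr rfl fun m _ => h2 m]
  rw [← Equiv.sum_comp (Equiv.divLeft a)]
  refine Finset.sum_congr rfl fun x _ => ?_
  simp only [Equiv.divLeft_apply]
  congr 1
  rw [div_div_div_comm, div_self', one_div, inv_div]

theorem isUnit_wz {z z' : N → N → R}
    (hi : ∀ (B : Type u) [CommRing B] [Algebra R B] (g h : N →* B), ev2 z g h * ev2 z' g h = 1) : IsUnit (wz z) :=
  IsUnit.of_mul_eq_one _ (hi _ _ _)

/-- The twisted algebra is étale. -/
theorem etale (d : Dat R N) (hw : IsUnit (wz d.z)) : Algebra.Etale R (Tw d) := by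
  rw [Groth.Agent.S2195.result (Tw.bas d), Algebra.discr_def]
  have hT : Algebra.traceMatrix R (Tw.bas d) =
      d.u • Algebra.leftMulMatrix (MonoidAlgebra.basis N R) (wz d.z) := by
    ext a b
    rw [Algebra.traceMatrix_apply, Algebra.traceForm_apply, Tw.trace_apply, Matrix.smul_apply, smul_eq_mul,
      Algebra.leftMulMatrix_eq_repr_mul]
    congr 1
    rw [Finset.sum_congr rfl fun x _ => Tw.bas_mul_bas d a b x, ← wz_coeff]
    change _ = (wz d.z * MonoidAlgebra.single b 1).coeff a
    rw [MonoidAlgebra.coeff_mul_single_apply, mul_one, div_eq_mul_inv]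
  rw [hT, Matrix.det_smul]
  have hu : IsUnit d.u := IsUnit.of_mul_eq_one _ d.huv
  refine (hu.pow _).mul ?_
  rw [← Matrix.isUnit_iff_isUnit_det]
  exact hw.map (Algebra.leftMulMatrix (MonoidAlgebra.basis N R))

instance (d : Dat R N) : Module.Free R (Tw d) := Module.Free.of_basis (Tw.bas d)
instance (d : Dat R N) : Module.Finite R (Tw d) := Module.Finite.of_basis (Tw.bas d)

theorem nontrivial_tw (d : Dat R N) [Nontrivial R] : Nontrivial (Tw d) :=
  inferInstanceAs (Nontrivial (N → R))

theorem faithfullyFlat (d : Dat R N) : Module.FaithfullyFlat R (Tw d) := by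
  cases subsingleton_or_nontrivial R
  · have : Subsingleton (Tw d) := inferInstanceAs (Subsingleton (N → R))
    refine ⟨fun m hm => ?_⟩
    exact absurd (Subsingleton.elim _ _) (hm.ne_top)
  · have := nontrivial_tw d
    infer_instance

/-- The universal solution. -/
noncomputable def ysol (d : Dat R N) {B : Type u} [CommRing B] (ψ : Tw d →+* B) (g : N →* B) : B :=
  ∑ a, ψ (Tw.bas d a) * g a

theorem bas_expand (d : Dat R N) (f : Tw d) : f = ∑ a, f a • Tw.bas d a := by
  conv_lhs => rw [← (Tw.bas d).sum_repr f]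
  rfl

theorem ysol_mul (d : Dat R N) {B : Type u} [CommRing B] [Algebra R B] (ψ : Tw d →ₐ[R] B) (g h : N →* B) :
    ysol d (ψ : Tw d →+* B) g * ysol d (ψ : Tw d →+* B) h = ev2 d.z g h * ysol d (ψ : Tw d →+* B) (g * h) := by
  have hmul : ∀ a b : N, ψ (Tw.bas d a) * ψ (Tw.bas d b) = ∑ x, algebraMap R B (d.z (a / x) (b / x)) * ψ (Tw.bas d x) := by
    intro a b
    rw [← map_mul, bas_expand d (Tw.bas d a * Tw.bas d b), map_sum]
    refine Finset.sum_congr rfl fun x _ => ?_
    rw [map_smul, Tw.bas_mul_bas, Algebra.smul_def]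
  have hl : ysol d (ψ : Tw d →+* B) g * ysol d (ψ : Tw d →+* B) h =
      ∑ a, ∑ b, ∑ x, algebraMap R B (d.z (a / x) (b / x)) * ψ (Tw.bas d x) * (g a * h b) := by
    rw [ysol, ysol, Finset.sum_mul]
    refine Finset.sum_congr rfl fun a _ => ?_
    rw [Finset.mul_sum]
    refine Finset.sum_congr rfl fun b _ => ?_
    rw [← Finset.sum_mul, ← hmul]
    change ψ _ * g a * (ψ _ * h b) = _
    ring
  have hr : ev2 d.z g h * ysol d (ψ : Tw d →+* B) (g * h) =
      ∑ x, ∑ a, ∑ b, algebraMap R B (d.z (a / x) (b / x)) * ψ (Tw.bas d x) * (g a * h b) := by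
    rw [ysol, Finset.mul_sum]
    refine Finset.sum_congr rfl fun x _ => ?_
    rw [ev2, Finset.sum_mul,
      ← shift x (fun a => ∑ b, algebraMap R B (d.z (a / x) (b / x)) * ψ (Tw.bas d x) * (g a * h b))]
    refine Finset.sum_congr rfl fun a _ => ?_
    rw [Finset.sum_mul,
      ← shift x (fun b => algebraMap R B (d.z (a * x / x) (b / x)) * ψ (Tw.bas d x) * (g (a * x) * h b))]
    refine Finset.sum_congr rfl fun b _ => ?_
    rw [mul_div_cancel_right, mul_div_cancel_right, MonoidHom.mul_apply, map_mul, map_mul]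
    change _ * (ψ _ * _) = _
    ring
  rw [hl, hr]
  refine Eq.trans ?_ Finset.sum_comm
  exact Finset.sum_congr rfl fun a _ => Finset.sum_comm

theorem sum_bas (d : Dat R N) : ∑ a, Tw.bas d a = d.u • (1 : Tw d) := by
  have h : (d.u • (1 : Tw d)) = ∑ a, (d.u • (1 : Tw d)) a • Tw.bas d a := bas_expand d _
  rw [h]
  refine Finset.sum_congr rfl fun a _ => ?_
  rw [Tw.smul_apply, Tw.one_apply, d.huv, one_smul]

theorem isUnit_ysol (d : Dat R N) {z' : N → N → R}
    (hi : ∀ (B : Type u) [CommRing B] [Algebra R B] (g h : N →* B), ev2 d.z g h * ev2 z' g h = 1)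
    {B : Type u} [CommRing B] [Algebra R B] (ψ : Tw d →ₐ[R] B) (g : N →* B) : IsUnit (ysol d (ψ : Tw d →+* B) g) := by
  have h1 := ysol_mul d ψ g (g.comp (invMonoidHom (α := N)))
  have h2 : g * g.comp (invMonoidHom (α := N)) = 1 := by
    ext a
    rw [MonoidHom.mul_apply, MonoidHom.comp_apply, ← map_mul, invMonoidHom_apply, mul_inv_cancel, map_one, MonoidHom.one_apply]
  have h3 : ysol d (ψ : Tw d →+* B) (1 : N →* B) = algebraMap R B d.u := by
    have h4 : ysol d (ψ : Tw d →+* B) (1 : N →* B) = ψ (∑ a, Tw.bas d a) := by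
      rw [map_sum, ysol]
      refine Finset.sum_congr rfl fun a _ => ?_
      rw [MonoidHom.one_apply, mul_one]
      rfl
    rw [h4, sum_bas, map_smul, map_one, Algebra.algebraMap_eq_smul_one]
  rw [h2, h3] at h1
  have h5 : IsUnit (ev2 d.z g (g.comp (invMonoidHom (α := N)))) := IsUnit.of_mul_eq_one _ (hi B _ _)
  have h6 : IsUnit (algebraMap R B d.u) := (IsUnit.of_mul_eq_one _ d.huv).map _
  exact isUnit_of_mul_isUnit_left (h1 ▸ h5.mul h6)

end K933.TwAlg
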